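import Cfsg.Agent.S0143
import Cfsg.Agent.S0144
import Cfsg.Agent.Cores.PSolvable
import Cfsg.Agent.Cores.Constrained
import Cfsg.Agent.PGroups.Basic
import Cfsg.Agent.Coprime.Generation
import Cfsg.Agent.H36.Basic

/-!
Simple groups with element orders `1, 2, r, s, 2r` (`r, s` odd primes) in which elements of equal
order are conjugate under automorphisms: the basic facts.  (Such groups do not exist; see `Main`.)
-/

set_option autoImplicit false
set_option linter.unusedSectionVars false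
set_option linter.style.haveILetI false

namespace Cfsg.Agent.H67.TwoR

open Subgroup

universe u

variable {G : Type u} [Group G] [Finite G]

theorem mem_cent {a b : G} : a ∈ centralizer ({b} : Set G) ↔ Commute a b :=
  Subgroup.mem_centralizer_singleton_iff

theorem orderOf_conj (g x : G) : orderOf (g * x * g⁻¹) = orderOf x :=
  (MulAut.conj g).orderOf_eq x

/-- A group all of whose orders are powers of one of two primes or mixtures is solvable. -/
theorem isSolvable_two_primes {H : Type u} [Group H] [Finite H] (p q : ℕ) (hp : p.Prime)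
    (hq : q.Prime) (h : ∀ d : ℕ, d.Prime → d ∣ Nat.card H → d = p ∨ d = q) :
    Group.IsSolvable H := by
  rcases eq_or_ne p q with rfl | hne
  · haveI : Fact p.Prime := ⟨hp⟩
    have hP : IsPGroup p H := by
      rw [IsPGroup.iff_card]
      exact ⟨_, Nat.eq_prime_pow_of_unique_prime_dvd Nat.card_pos.ne'
        fun hd hd' => (h _ hd hd').elim id id⟩
    haveI := hP.isNilpotent
    infer_instance
  · refine S0144.result p q ((Nat.card H).factorization p) ((Nat.card H).factorization q) hp hq ?_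
    refine Nat.eq_of_factorization_eq Nat.card_pos.ne'
      (mul_ne_zero (pow_ne_zero _ hp.ne_zero) (pow_ne_zero _ hq.ne_zero)) fun d => ?_
    rw [Nat.factorization_mul (pow_ne_zero _ hp.ne_zero) (pow_ne_zero _ hq.ne_zero),
      Finsupp.add_apply, Nat.factorization_pow, Nat.factorization_pow, Finsupp.smul_apply,
      Finsupp.smul_apply, Nat.Prime.factorization hp, Nat.Prime.factorization hq]
    rcases eq_or_ne d p with rfl | hdp
    · simp [hne, Ne.symm hne]
    rcases eq_or_ne d q with rfl | hdq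
    · simp [hne, Ne.symm hne]
    rw [Finsupp.single_eq_of_ne hdp, Finsupp.single_eq_of_ne hdq]
    simp only [smul_zero, add_zero]
    by_contra hd
    rcases h d (Nat.prime_of_mem_primeFactors (Nat.support_factorization _ ▸
      Finsupp.mem_support_iff.2 hd)) (Nat.dvd_of_factorization_pos hd) with e | e
    exacts [hdp e, hdq e]

/-- In a solvable group with abelian Sylow `p`-subgroup `S`, `O_{p'} S` is normal. -/
theorem pPrimeCore_sup_normal {X : Type u} [Group X] [Finite X] [Group.IsSolvable X] {p : ℕ}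
    [Fact p.Prime] (S : Sylow p X) (hS : IsMulCommutative ↥(S : Subgroup X)) :
    (Cfsg.pPrimeCore p X ⊔ (S : Subgroup X)).Normal := by
  classical
  set O := Cfsg.pPrimeCore p X
  have hbot : Cfsg.pPrimeCore p (X ⧸ O) = ⊥ := Cores.pPrimeCore_quotient_pPrimeCore
  set T : Sylow p (X ⧸ O) := S.mapSurjective (QuotientGroup.mk'_surjective O)
  have hTc : ∀ a ∈ (T : Subgroup (X ⧸ O)), ∀ b ∈ (T : Subgroup (X ⧸ O)), Commute a b := by
    rintro _ ⟨a, ha, rfl⟩ _ ⟨b, hb, rfl⟩
    exact (show Commute a b from congrArg Subtype.val (hS.is_comm.comm ⟨a, ha⟩ ⟨b, hb⟩)).map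
      (QuotientGroup.mk' O)
  have hTQ : (T : Subgroup (X ⧸ O)) ≤ Cfsg.pCore p (X ⧸ O) := fun a ha =>
    Cores.centralizer_pCore_le Cores.isPSolvable_of_isSolvable hbot fun b hb =>
      (hTc b (Cores.pCore_le_sylow T hb) a ha).eq
  have hn : (T : Subgroup (X ⧸ O)).Normal := by
    rw [le_antisymm hTQ (Cores.pCore_le_sylow T)]; infer_instance
  have h := hn.comap (QuotientGroup.mk' O)
  rw [show (T : Subgroup (X ⧸ O)) = (S : Subgroup X).map (QuotientGroup.mk' O) from rfl,
    QuotientGroup.comap_map_mk'] at h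
  exact h

/-- The hypotheses. -/
structure Ctx (G : Type u) [Group G] where
  r : ℕ
  s : ℕ
  hr : r.Prime
  hs : s.Prime
  hr2 : r ≠ 2
  hs2 : s ≠ 2
  hrs : r ≠ s
  spec : ∀ g : G, orderOf g = 1 ∨ orderOf g = 2 ∨ orderOf g = r ∨ orderOf g = s ∨ orderOf g = 2 * r
  simp : IsSimpleGroup G
  hna : ¬ IsMulCommutative G
  exists_two_r : ∃ g : G, orderOf g = 2 * r
  dvd_s : s ∣ Nat.card G
  aut : ∀ a b : G, orderOf a = orderOf b → ∃ φ : MulAut G, φ a = b

namespace Ctx

variable (c : Ctx G)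
include c

theorem exists_r : ∃ x : G, orderOf x = c.r ∧ ∃ t : G, orderOf t = 2 ∧ Commute t x := by
  obtain ⟨g, hg⟩ := c.exists_two_r
  refine ⟨g ^ 2, ?_, g ^ c.r, ?_, (Commute.refl g).pow_pow _ _⟩
  · rw [orderOf_pow_of_dvd (by norm_num) (hg ▸ dvd_mul_right _ _), hg,
      Nat.mul_div_cancel_left _ (by norm_num)]
  · rw [orderOf_pow_of_dvd c.hr.ne_zero (hg ▸ dvd_mul_left _ _), hg, Nat.mul_div_cancel _ c.hr.pos]

theorem sq_eq {g : G} {k : ℕ} (h : g ^ (2 ^ k) = 1) : g * g = 1 := by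
  obtain ⟨j, -, hj⟩ := (Nat.dvd_prime_pow Nat.prime_two).1 (orderOf_dvd_of_pow_eq_one h)
  rw [← sq, ← orderOf_dvd_iff_pow_eq_one]
  rcases c.spec g with e | e | e | e | e <;> rw [e]
  · exact one_dvd 2
  · exfalso
    have := Nat.Prime.dvd_of_dvd_pow c.hr (hj ▸ e ▸ dvd_rfl : c.r ∣ 2 ^ j)
    exact c.hr2 ((Nat.prime_dvd_prime_iff_eq c.hr Nat.prime_two).1 this)
  · exfalso
    have := Nat.Prime.dvd_of_dvd_pow c.hs (hj ▸ e ▸ dvd_rfl : c.s ∣ 2 ^ j)
    exact c.hs2 ((Nat.prime_dvd_prime_iff_eq c.hs Nat.prime_two).1 this)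
  · exfalso
    have := Nat.Prime.dvd_of_dvd_pow c.hr (hj ▸ e ▸ dvd_mul_left _ _ : c.r ∣ 2 ^ j)
    exact c.hr2 ((Nat.prime_dvd_prime_iff_eq c.hr Nat.prime_two).1 this)

theorem commute_two {P : Subgroup G} (hP : IsPGroup 2 ↥P) {a b : G} (ha : a ∈ P) (hb : b ∈ P) :
    Commute a b := by
  have key : ∀ g ∈ P, g⁻¹ = g := fun g hg => by
    obtain ⟨k, hk⟩ := hP ⟨g, hg⟩
    exact inv_eq_of_mul_eq_one_right (c.sq_eq (congrArg Subtype.val hk))
  have h := key _ (mul_mem ha hb)
  rw [mul_inv_rev, key a ha, key b hb] at h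
  exact h.symm

theorem comm_sylow (S : Sylow 2 G) : IsMulCommutative ↥(S : Subgroup G) :=
  ⟨⟨fun a b => Subtype.ext (c.commute_two S.2 a.2 b.2).eq⟩⟩

theorem orderOf_two_of_mem {P : Subgroup G} (hP : IsPGroup 2 ↥P) {a : G} (ha : a ∈ P) (h1 : a ≠ 1) :
    orderOf a = 2 := by
  obtain ⟨k, hk⟩ := hP ⟨a, ha⟩
  refine orderOf_eq_prime ?_ h1
  rw [sq]
  exact c.sq_eq (congrArg Subtype.val hk)

/-- No two elements of orders `s` and `p ≠ s` commute. -/
theorem not_commute_s {g y : G} (hy : orderOf y = c.s) {p : ℕ} (hp : p.Prime) (hps : p ≠ c.s)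
    (hg : orderOf g = p) : ¬ Commute g y := by
  intro h
  have ho : orderOf (g * y) = p * c.s := by
    rw [h.orderOf_mul_eq_mul_orderOf_of_coprime (by rw [hg, hy]; exact (Nat.coprime_primes hp c.hs).2 hps),
      hg, hy]
  have hd : c.s ∣ orderOf (g * y) := ho ▸ dvd_mul_left _ _
  have hne := (Nat.prime_dvd_prime_iff_eq c.hs Nat.prime_two).not.2 c.hs2
  have hne' := (Nat.prime_dvd_prime_iff_eq c.hs c.hr).not.2 (Ne.symm c.hrs)
  rcases c.spec (g * y) with e | e | e | e | e
  · exact c.hs.ne_one (Nat.dvd_one.1 (e ▸ hd))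
  · exact hne (e ▸ hd)
  · exact hne' (e ▸ hd)
  · rw [ho] at e
    exact hp.ne_one ((Nat.mul_eq_right c.hs.ne_zero).1 e)
  · rcases (c.hs.dvd_mul).1 (e ▸ hd) with h' | h'
    exacts [hne h', hne' h']

theorem prime_eq {p : ℕ} (hp : p.Prime) (hd : p ∣ Nat.card G) : p = 2 ∨ p = c.r ∨ p = c.s := by
  haveI := Fact.mk hp
  obtain ⟨g, hg⟩ := exists_prime_orderOf_dvd_card' p hd
  rcases c.spec g with e | e | e | e | e <;> rw [hg] at e
  · exact absurd e hp.ne_one
  · exact Or.inl e
  · exact Or.inr (Or.inl e)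
  · exact Or.inr (Or.inr e)
  · exact absurd (e ▸ hp) (Nat.not_prime_mul (by norm_num) c.hr.ne_one)

/-- No element of order `s` centralises an element of order `2` or `r`. -/
theorem not_dvd_centralizer {g : G} (hg : orderOf g = 2 ∨ orderOf g = c.r) :
    ¬ c.s ∣ Nat.card ↥(centralizer ({g} : Set G)) := by
  intro hd
  haveI := Fact.mk c.hs
  obtain ⟨⟨y, hy⟩, hyo⟩ := exists_prime_orderOf_dvd_card' c.s hd
  rw [orderOf_mk] at hyo
  rcases hg with hg | hg
  · exact c.not_commute_s hyo Nat.prime_two (Ne.symm c.hs2) hg (mem_cent.1 hy).symm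
  · exact c.not_commute_s hyo c.hr c.hrs hg (mem_cent.1 hy).symm

theorem solvable_centralizer {g : G} (hg : orderOf g = 2 ∨ orderOf g = c.r) :
    Group.IsSolvable ↥(centralizer ({g} : Set G)) :=
  isSolvable_two_primes 2 c.r Nat.prime_two c.hr fun d hd hdv => by
    rcases c.prime_eq hd (hdv.trans (card_subgroup_dvd_card _)) with h | h | h
    exacts [Or.inl h, Or.inr h, absurd (h ▸ hdv) (c.not_dvd_centralizer hg)]

/-- Aut-conjugates of a central element of a Sylow subgroup are central in one. -/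
theorem exists_sylow_le {p : ℕ} [Fact p.Prime] (hd : p ∣ Nat.card G) {x : G} (hx : orderOf x = p) :
    ∃ P : Sylow p G, (P : Subgroup G) ≤ centralizer ({x} : Set G) := by
  obtain ⟨P₀⟩ : Nonempty (Sylow p G) := inferInstance
  haveI : Nontrivial ↥(P₀ : Subgroup G) :=
    (nontrivial_iff_ne_bot _).2 (P₀.ne_bot_of_dvd_card hd)
  obtain ⟨z, -, hzc, hzo⟩ := PGroups.exists_mem_center_orderOf_eq P₀.2
    (⊤ : Subgroup ↥(P₀ : Subgroup G)) top_ne_bot
  obtain ⟨φ, hφ⟩ := c.aut (z : G) x (by rw [Subgroup.orderOf_coe, hzo, hx])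
  refine ⟨P₀.mapSurjective (f := φ.toMonoidHom) φ.surjective, ?_⟩
  rintro _ ⟨a, ha, rfl⟩
  rw [mem_cent, ← hφ]
  exact (show Commute a (z : G) from congrArg Subtype.val (mem_center_iff.1 hzc ⟨a, ha⟩)).map φ

/-- An element of order `2` or `r` commutes with elements of the other order. -/
theorem exists_commute_r {t : G} (ht : orderOf t = 2) : ∃ x : G, orderOf x = c.r ∧ Commute t x := by
  obtain ⟨x, hx, u, hu, hux⟩ := c.exists_r
  obtain ⟨φ, rfl⟩ := c.aut u t (hu.trans ht.symm)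
  exact ⟨φ x, by rw [φ.orderOf_eq, hx], hux.map φ⟩

theorem exists_commute_two {x : G} (hx : orderOf x = c.r) : ∃ t : G, orderOf t = 2 ∧ Commute t x := by
  obtain ⟨x₀, hx₀, u, hu, hux⟩ := c.exists_r
  obtain ⟨φ, rfl⟩ := c.aut x₀ x (hx₀.trans hx.symm)
  exact ⟨φ u, by rw [φ.orderOf_eq, hu], hux.map φ⟩

theorem two_dvd : 2 ∣ Nat.card G := by
  obtain ⟨g, hg⟩ := c.exists_two_r
  exact (hg ▸ dvd_mul_right _ _ : 2 ∣ orderOf g).trans (orderOf_dvd_natCard g)

theorem r_dvd : c.r ∣ Nat.card G := by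
  obtain ⟨g, hg⟩ := c.exists_two_r
  exact (hg ▸ dvd_mul_left _ _ : c.r ∣ orderOf g).trans (orderOf_dvd_natCard g)

theorem not_prime : ¬ (Nat.card G).Prime := fun h => by
  have h2 := (Nat.prime_dvd_prime_iff_eq Nat.prime_two h).1 c.two_dvd
  exact c.hr2 ((Nat.prime_dvd_prime_iff_eq c.hr Nat.prime_two).1 (h2 ▸ c.r_dvd))

/-- Burnside: no centraliser of an element of order `2`, `r` contains Sylow subgroups for both. -/
theorem not_both [Fact c.r.Prime] {g : G} (hg : orderOf g = 2 ∨ orderOf g = c.r) (S : Sylow 2 G)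
    (P : Sylow c.r G) (hS : (S : Subgroup G) ≤ centralizer ({g} : Set G))
    (hP : (P : Subgroup G) ≤ centralizer ({g} : Set G)) : False := by
  haveI := c.simp
  set C := centralizer ({g} : Set G)
  have hg1 : g ≠ 1 := by
    intro e; rw [e, orderOf_one] at hg
    rcases hg with h | h
    exacts [absurd h (by norm_num), c.hr.ne_one h.symm]
  refine c.not_prime (S0143.result c.s (C.index.factorization c.s) c.hs g hg1 ?_)
  have hC0 : C.index ≠ 0 := Subgroup.index_ne_zero_of_finite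
  refine Nat.eq_of_factorization_eq hC0 (pow_ne_zero _ c.hs.ne_zero) fun d => ?_
  rcases eq_or_ne d c.s with rfl | hd
  · rw [Nat.Prime.factorization_pow c.hs, Finsupp.single_eq_same]
  rw [Nat.Prime.factorization_pow c.hs, Finsupp.single_eq_of_ne hd]
  by_contra hne
  have hdp := Nat.prime_of_mem_primeFactors (Nat.support_factorization _ ▸
    Finsupp.mem_support_iff.2 hne)
  have hdv := Nat.dvd_of_factorization_pos hne
  rcases c.prime_eq hdp (hdv.trans C.index_dvd_card) with rfl | rfl | rfl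
  · exact S.not_dvd_index (hdv.trans (index_dvd_of_le hS))
  · exact P.not_dvd_index (hdv.trans (index_dvd_of_le hP))
  · exact hd rfl

/-- A Sylow 2-subgroup is its own centraliser. -/
theorem centralizer_sylow (S : Sylow 2 G) :
    centralizer ((S : Subgroup G) : Set G) = (S : Subgroup G) := by
  haveI := Fact.mk c.hr
  have hle : (S : Subgroup G) ≤ centralizer ((S : Subgroup G) : Set G) := fun a ha b hb =>
    (c.commute_two S.2 hb ha).eq
  refine S.3 ?_ hle
  rw [IsPGroup.iff_card]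
  refine ⟨_, Nat.eq_prime_pow_of_unique_prime_dvd Nat.card_pos.ne' fun {d} hd hdv => ?_⟩
  by_contra hd2
  haveI := Fact.mk hd
  obtain ⟨⟨g, hg⟩, hgo⟩ := exists_prime_orderOf_dvd_card' d hdv
  rw [orderOf_mk] at hgo
  rcases c.prime_eq hd (hdv.trans (card_subgroup_dvd_card _)) with rfl | rfl | rfl
  · exact hd2 rfl
  · obtain ⟨P, hP⟩ := c.exists_sylow_le c.r_dvd hgo
    exact c.not_both (Or.inr hgo) S P (fun a ha => mem_cent.2 (hg a ha)) hP
  · haveI : Nontrivial ↥(S : Subgroup G) :=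
      (nontrivial_iff_ne_bot _).2 (S.ne_bot_of_dvd_card c.two_dvd)
    obtain ⟨⟨a, ha⟩, ha1⟩ := exists_ne (1 : ↥(S : Subgroup G))
    exact c.not_commute_s hgo Nat.prime_two (Ne.symm c.hs2)
      (c.orderOf_two_of_mem S.2 ha fun e => ha1 (Subtype.ext e)) (hg a ha)

end Ctx

end Cfsg.Agent.H67.TwoR
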