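import Cfsg.Agent.H67.TwoR.Count

/-!
Odd cores of involution centralisers, and the case that one of them is nontrivial.
-/

set_option autoImplicit false
set_option linter.unusedSectionVars false
set_option linter.style.haveILetI false

namespace Cfsg.Agent.H67.TwoR

open Subgroup

universe u

variable {G : Type u} [Group G] [Finite G]

/-- The odd core of the centraliser of `g`. -/
def core (g : G) : Subgroup G :=
  (Cfsg.pPrimeCore 2 ↥(centralizer ({g} : Set G))).map (centralizer ({g} : Set G)).subtype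

theorem core_le (g : G) : core g ≤ centralizer ({g} : Set G) := map_subtype_le _

theorem centralizer_le_normalizer_core (g : G) :
    centralizer ({g} : Set G) ≤ normalizer (core g : Set G) := by
  intro a ha
  rw [mem_normalizer_iff]
  intro b
  constructor
  · rintro ⟨z, hz, rfl⟩
    exact ⟨⟨a, ha⟩ * z * ⟨a, ha⟩⁻¹, (inferInstance : (Cfsg.pPrimeCore 2
      ↥(centralizer ({g} : Set G))).Normal).conj_mem z hz _, rfl⟩
  · rintro ⟨z, hz, e⟩
    refine ⟨⟨a, ha⟩⁻¹ * z * ⟨a, ha⟩⁻¹⁻¹, (inferInstance : (Cfsg.pPrimeCore 2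
      ↥(centralizer ({g} : Set G))).Normal).conj_mem z hz _, ?_⟩
    show a⁻¹ * (z : G) * a⁻¹⁻¹ = b
    rw [show (z : G) = a * b * a⁻¹ from e]; group

theorem odd_card_core (g : G) : Odd (Nat.card ↥(core g)) := by
  rw [core, card_map_of_injective (subtype_injective _)]
  exact Nat.coprime_two_right.1 Cores.coprime_card_pPrimeCore

theorem core_inf_eq_bot (g : G) {P : Subgroup G} (hP : IsPGroup 2 ↥P) : core g ⊓ P = ⊥ := by
  rw [eq_bot_iff]
  rintro a ⟨ha, haP⟩
  obtain ⟨k, hk⟩ := hP ⟨a, haP⟩
  rw [mem_bot, ← orderOf_eq_one_iff]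
  exact Nat.eq_one_of_dvd_coprimes ((Nat.coprime_two_left.2
    ((odd_card_core g))).pow_left k) (orderOf_dvd_of_pow_eq_one (congrArg Subtype.val hk))
    (Subgroup.orderOf_dvd_natCard _ ha)

namespace Ctx

variable (c : Ctx G)
include c

variable {g : G} (hg : orderOf g = 2 ∨ orderOf g = c.r)

include hg in
/-- `O(C(g)) T` is normal in `C(g)` for a Sylow 2-subgroup `T` of `C(g)`. -/
theorem le_normalizer_core_sup (T : Sylow 2 ↥(centralizer ({g} : Set G))) :
    centralizer ({g} : Set G) ≤ normalizer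
      ((core g ⊔ (T : Subgroup ↥(centralizer ({g} : Set G))).map
        (centralizer ({g} : Set G)).subtype : Subgroup G) : Set G) := by
  haveI := c.solvable_centralizer hg
  have hT : IsMulCommutative ↥(T : Subgroup ↥(centralizer ({g} : Set G))) :=
    ⟨⟨fun a b => Subtype.ext (Subtype.ext (c.commute_two
      (T.2.map (centralizer ({g} : Set G)).subtype) (mem_map_of_mem _ a.2) (mem_map_of_mem _ b.2)).eq)⟩⟩
  have hn := pPrimeCore_sup_normal T hT
  rw [core, ← Subgroup.map_sup]
  intro a ha
  have h1 : (⟨a, ha⟩ : ↥(centralizer ({g} : Set G))) ∈ normalizer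
      ((Cfsg.pPrimeCore 2 ↥(centralizer ({g} : Set G)) ⊔
        (T : Subgroup ↥(centralizer ({g} : Set G))) : Subgroup _) : Set _) := by
    rw [normalizer_eq_top]; exact mem_top _
  exact le_normalizer_map _ (mem_map_of_mem (centralizer ({g} : Set G)).subtype h1)

variable {S : Sylow 2 G} {t : G} (ht : orderOf t = 2) (htS : t ∈ (S : Subgroup G))

include htS in
theorem sylow_le_centralizer : (S : Subgroup G) ≤ centralizer ({t} : Set G) := fun _ ha =>
  mem_cent.2 (c.commute_two S.2 ha htS)

include htS in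
theorem sylow_le_normalizer_core : (S : Subgroup G) ≤ normalizer (core t : Set G) :=
  (c.sylow_le_centralizer htS).trans (centralizer_le_normalizer_core t)

include ht htS in
theorem le_normalizer_core_sup_sylow :
    centralizer ({t} : Set G) ≤ normalizer ((core t ⊔ (S : Subgroup G) : Subgroup G) : Set G) := by
  have h := c.le_normalizer_core_sup (Or.inl ht) (S.subtype (c.sylow_le_centralizer htS))
  rwa [Sylow.coe_subtype, map_subgroupOf_eq_of_le (c.sylow_le_centralizer htS)] at h

include htS in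
theorem mem_core_sup {a : G} (ha : a ∈ core t ⊔ (S : Subgroup G)) :
    ∃ o ∈ core t, ∃ σ ∈ (S : Subgroup G), a = o * σ := by
  rw [← SetLike.mem_coe, Subgroup.coe_mul_of_right_le_normalizer_left _ _
    (c.sylow_le_normalizer_core htS)] at ha
  obtain ⟨o, ho, σ, hσ, rfl⟩ := ha
  exact ⟨o, ho, σ, hσ, rfl⟩

include htS in
/-- Elements of odd order in `O(C(t)) S` lie in `O(C(t))`. -/
theorem mem_core_of_odd {a : G} (ha : a ∈ core t ⊔ (S : Subgroup G)) (ho : Odd (orderOf a)) :
    a ∈ core t := by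
  obtain ⟨o, hoc, σ, hσ, rfl⟩ := c.mem_core_sup htS ha
  have hn : ∀ n : ℕ, (o * σ) ^ n * (σ ^ n)⁻¹ ∈ core t := by
    intro n
    induction n with
    | zero => simp
    | succ n ih =>
      have hN := c.sylow_le_normalizer_core htS (pow_mem hσ n)
      have e : (o * σ) ^ (n + 1) * (σ ^ (n + 1))⁻¹ =
          ((o * σ) ^ n * (σ ^ n)⁻¹) * (σ ^ n * o * (σ ^ n)⁻¹) := by
        rw [pow_succ, pow_succ]; group
      rw [e]
      exact mul_mem ih ((mem_normalizer_iff.1 hN o).1 hoc)
  have h := hn (orderOf (o * σ))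
  rw [pow_orderOf_eq_one, one_mul, inv_mem_iff] at h
  have h2 : σ ^ orderOf (o * σ) = 1 := by
    have := Subgroup.mem_inf.2 ⟨h, pow_mem hσ _⟩
    rwa [core_inf_eq_bot t S.2, mem_bot] at this
  have hσ1 : σ = 1 := by
    by_contra hne
    have := orderOf_dvd_of_pow_eq_one h2
    rw [c.orderOf_two_of_mem S.2 hσ hne] at this
    exact Nat.not_even_iff_odd.2 ho (even_iff_two_dvd.2 this)
  rw [hσ1, mul_one]
  exact hoc

include ht in
theorem isPGroup_core : IsPGroup c.r ↥(core t) := by
  haveI := Fact.mk c.hr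
  rw [IsPGroup.iff_card]
  refine ⟨_, Nat.eq_prime_pow_of_unique_prime_dvd Nat.card_pos.ne' fun {d} hd hdv => ?_⟩
  rcases c.prime_eq hd (hdv.trans (card_subgroup_dvd_card _)) with h | h | h
  · exact absurd (h ▸ hdv) (odd_card_core t).not_two_dvd_nat
  · exact h
  · exact absurd ((h ▸ hdv).trans (card_dvd_of_le (core_le t))) (c.not_dvd_centralizer (Or.inl ht))

include ht in
theorem orderOf_of_mem_core {x : G} (hx : x ∈ core t) (h1 : x ≠ 1) : orderOf x = c.r := by
  obtain ⟨k, hk⟩ := c.isPGroup_core ht ⟨x, hx⟩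
  have hd := orderOf_dvd_of_pow_eq_one (congrArg Subtype.val hk : x ^ c.r ^ k = 1)
  have hodd : Odd (orderOf x) := (odd_card_core t).of_dvd_nat (Subgroup.orderOf_dvd_natCard _ hx)
  rcases c.spec x with e | e | e | e | e
  · exact absurd (orderOf_eq_one_iff.1 e) h1
  · exact absurd hodd (by rw [e]; decide)
  · exact e
  · exact absurd (c.hs.dvd_of_dvd_pow (e ▸ hd)) fun h =>
      c.hrs ((Nat.prime_dvd_prime_iff_eq c.hs c.hr).1 h).symm
  · exact absurd hodd (by rw [e]; simp)

include ht htS in
/-- A nontrivial odd core contains an element of order `r` centralised by a subgroup of index two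
of `S`. -/
theorem exists_hyperplane (hne : core t ≠ ⊥) :
    ∃ x : G, orderOf x = c.r ∧ 2 * Nat.card ↥((S : Subgroup G) ⊓ centralizer ({x} : Set G)) =
      Nat.card ↥(S : Subgroup G) := by
  classical
  haveI := Fact.mk c.hr
  let W : Set (Subgroup G) :=
    {X | X ≠ ⊥ ∧ X ≤ core t ∧ (S : Subgroup G) ≤ normalizer (X : Set G) ∧
      ∀ a ∈ X, ∀ b ∈ X, Commute a b}
  have hW : W.Nonempty := by
    haveI : Nontrivial ↥(core t) := (nontrivial_iff_ne_bot _).2 hne
    haveI := (c.isPGroup_core ht).center_nontrivial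
    refine ⟨(center ↥(core t)).map (core t).subtype, ?_, map_subtype_le _, ?_, ?_⟩
    · rw [Ne, map_eq_bot_iff_of_injective _ (subtype_injective _)]
      exact (nontrivial_iff_ne_bot _).1 inferInstance
    · intro a ha
      rw [mem_normalizer_iff]
      intro b
      have key : ∀ a ∈ normalizer (core t : Set G), ∀ b ∈ (center ↥(core t)).map (core t).subtype,
          a * b * a⁻¹ ∈ (center ↥(core t)).map (core t).subtype := by
        rintro a ha _ ⟨z, hz, rfl⟩
        refine ⟨⟨a * (z : G) * a⁻¹, (mem_normalizer_iff.1 ha _).1 z.2⟩, mem_center_iff.2 fun w => ?_, rfl⟩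
        have hw : a⁻¹ * (w : G) * a ∈ core t := by
          have := (mem_normalizer_iff.1 (inv_mem ha) (w : G)).1 w.2
          rwa [inv_inv] at this
        have h1 : (a⁻¹ * (w : G) * a) * z = (z : G) * (a⁻¹ * w * a) :=
          congrArg Subtype.val (mem_center_iff.1 hz ⟨_, hw⟩)
        refine Subtype.ext ?_
        show (w : G) * (a * z * a⁻¹) = a * z * a⁻¹ * w
        calc (w : G) * (a * z * a⁻¹) = a * ((a⁻¹ * w * a) * z) * a⁻¹ := by group
          _ = a * ((z : G) * (a⁻¹ * w * a)) * a⁻¹ := by rw [h1]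
          _ = _ := by group
      have haN := c.sylow_le_normalizer_core htS ha
      refine ⟨key a haN b, fun h => ?_⟩
      have := key a⁻¹ (inv_mem haN) _ h
      rwa [show a⁻¹ * (a * b * a⁻¹) * a⁻¹⁻¹ = b by group] at this
    · rintro _ ⟨z, hz, rfl⟩ _ ⟨w, -, rfl⟩
      exact ((show Commute w z from mem_center_iff.1 hz w).map (core t).subtype).symm
  obtain ⟨X, ⟨hXne, hXO, hXS, hXc⟩, hmin⟩ := (Set.toFinite W).exists_minimal hW
  obtain ⟨x, hxX, hx1⟩ := X.bot_or_exists_ne_one.resolve_left hXne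
  have hxo := c.orderOf_of_mem_core ht (hXO hxX) hx1
  have hdich : ∀ a ∈ (S : Subgroup G), ¬ Commute a x → a * x * a⁻¹ = x⁻¹ := by
    intro a ha hax
    have ha2 : a * a = 1 := by
      obtain ⟨k, hk⟩ := S.2 ⟨a, ha⟩
      exact c.sq_eq (congrArg Subtype.val hk)
    have hfix : X ⊓ centralizer ({a} : Set G) = ⊥ := by
      by_contra hb
      have hle := hmin (y := X ⊓ centralizer ({a} : Set G)) ⟨hb, inf_le_left.trans hXO, ?_,
        fun u hu v hv => hXc u hu.1 v hv.1⟩ inf_le_left
      · exact hax (mem_cent.1 (hle hxX).2).symm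
      · intro b hb'
        have hab : Commute b a := c.commute_two S.2 hb' ha
        rw [mem_normalizer_iff]
        intro w
        rw [mem_inf, mem_inf, ← mem_normalizer_iff.1 (hXS hb') w, mem_cent, mem_cent]
        refine and_congr_right fun _ => ⟨fun h => ?_, fun h => ?_⟩
        · exact (hab.mul_left h).mul_left hab.inv_left
        · have := (hab.inv_left.mul_left h).mul_left hab
          rwa [show b⁻¹ * (b * w * b⁻¹) * b = w by group] at this
    have hmem : a * x * a⁻¹ ∈ X := (mem_normalizer_iff.1 (hXS ha) x).1 hxX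
    have h2 : x * (a * x * a⁻¹) ∈ X ⊓ centralizer ({a} : Set G) := by
      refine ⟨mul_mem hxX hmem, mem_cent.2 ?_⟩
      have hai : a⁻¹ = a := inv_eq_of_mul_eq_one_left ha2
      show x * (a * x * a⁻¹) * a = a * (x * (a * x * a⁻¹))
      rw [(hXc x hxX _ hmem).eq, hai]
      calc a * x * a * x * a = a * x * (a * x * a) := by group
        _ = (a * a) * (a * x * (a * x * a)) := by rw [ha2, one_mul]
        _ = a * ((a * (a * x * a⁻¹)) * x * a) := by rw [hai]; simp [mul_assoc]
        _ = a * (x * (a * x * a)) := by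
          rw [hai, ← mul_assoc, ← mul_assoc, ← mul_assoc a a, ha2, one_mul]
          simp [mul_assoc]
        _ = a * (a * x * a * x) := by
          rw [show x * (a * x * a) = x * (a * x * a⁻¹) by rw [hai], (hXc x hxX _ hmem).eq, hai]
    rw [hfix, mem_bot] at h2
    exact eq_inv_of_mul_eq_one_right h2
  refine ⟨x, hxo, ?_⟩
  set B := (S : Subgroup G) ⊓ centralizer ({x} : Set G)
  obtain ⟨a, haS, hax⟩ : ∃ a ∈ (S : Subgroup G), ¬ Commute a x := by
    by_contra hcon
    push Not at hcon
    have hxS : x ∈ (S : Subgroup G) := by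
      rw [← c.centralizer_sylow S]
      exact fun a ha => (hcon a ha).eq
    have := c.orderOf_two_of_mem S.2 hxS hx1
    exact c.hr2 (hxo.symm.trans this)
  have hidx : (B.subgroupOf (S : Subgroup G)).index = 2 := by
    rw [index_eq_two_iff]
    refine ⟨⟨a, haS⟩, fun b => ?_⟩
    rw [mem_subgroupOf, mem_subgroupOf]
    show Xor ((b : G) * a ∈ B) ((b : G) ∈ B)
    by_cases hb : Commute (b : G) x
    · refine Or.inr ⟨⟨b.2, mem_cent.2 hb⟩, fun h => hax ?_⟩
      have := hb.inv_left.mul_left (mem_cent.1 h.2)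
      rwa [inv_mul_cancel_left] at this
    · refine Or.inl ⟨⟨mul_mem b.2 haS, mem_cent.2 ?_⟩, fun h => hb (mem_cent.1 h.2)⟩
      have e1 := hdich a haS hax
      have e2 := hdich b b.2 hb
      refine mul_inv_eq_iff_eq_mul.1 ?_
      calc (b : G) * a * x * ((b : G) * a)⁻¹ = b * (a * x * a⁻¹) * (b : G)⁻¹ := by group
        _ = ((b : G) * x * (b : G)⁻¹)⁻¹ := by rw [e1]; group
        _ = x := by rw [e2, inv_inv]
  have := card_mul_index (B.subgroupOf (S : Subgroup G))
  rw [hidx, Nat.card_congr (subgroupOfEquivOfLe (inf_le_left : B ≤ (S : Subgroup G))).toEquiv] at this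
  exact (mul_comm _ _).trans this

end Ctx

end Cfsg.Agent.H67.TwoR
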