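import Cfsg.Agent.H67.TwoR.Core

/-!
The case that some involution centraliser has a nontrivial odd core is impossible: the elements of
even order fill less than a third of the group, those of order `r` a third of that, and those of
order `s` less than a half.
-/

set_option autoImplicit false
set_option linter.unusedSectionVars false
set_option linter.style.haveILetI false

namespace Cfsg.Agent.H67.TwoR.Ctx

open Subgroup

universe u

variable {G : Type u} [Group G] [Finite G] (c : Ctx G)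

include c

theorem mem_of_two {S : Sylow 2 G} {a : G} (ha : a ∈ normalizer ((S : Subgroup G) : Set G))
    (h2 : a * a = 1) : a ∈ (S : Subgroup G) := by
  have hp : IsPGroup 2 ↥(zpowers a) := by
    obtain ⟨j, -, hj⟩ := (Nat.dvd_prime_pow Nat.prime_two).1
      (orderOf_dvd_of_pow_eq_one (by rw [pow_one, sq, h2] : a ^ 2 ^ 1 = 1))
    exact IsPGroup.of_card (by rw [Nat.card_zpowers, hj])
  have h : a ∈ zpowers a ⊓ normalizer ((S : Subgroup G) : Set G) :=
    mem_inf.2 ⟨mem_zpowers a, ha⟩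
  exact (Subgroup.mem_inf.1 ((hp.inf_normalizer_sylow S).le h)).2

theorem orderOf_sq {g : G} (hg : orderOf g = 2 * c.r) : orderOf (g ^ 2) = c.r := by
  rw [orderOf_pow_of_dvd (by norm_num) (hg ▸ dvd_mul_right _ _), hg,
    Nat.mul_div_cancel_left _ (by norm_num)]

/-- Elements of `S.N(S)` of order `r` or `s` outside `S`. -/
theorem exists_odd_normalizer (S : Sylow 2 G) :
    ∃ m ∈ normalizer ((S : Subgroup G) : Set G), orderOf m = c.r ∨ orderOf m = c.s := by
  haveI := c.simp
  obtain ⟨n, hn, hn'⟩ := SetLike.not_le_iff_exists.1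
    (H36.not_normalizer_le_centralizer c.hna S c.two_dvd)
  rcases c.spec n with e | e | e | e | e
  · exact absurd (by rw [orderOf_eq_one_iff.1 e]; exact one_mem _) hn'
  · refine absurd ?_ hn'
    have h := c.mem_of_two hn (by rw [← sq, ← e, pow_orderOf_eq_one])
    rw [c.centralizer_sylow S]; exact h
  · exact ⟨n, hn, Or.inl e⟩
  · exact ⟨n, hn, Or.inr e⟩
  · exact ⟨n ^ 2, pow_mem hn 2, Or.inl (c.orderOf_sq e)⟩

section

variable (hyp : ∀ y : G, orderOf y = c.r → ∃ T : Sylow 2 G,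
  2 * Nat.card ↥((T : Subgroup G) ⊓ centralizer ({y} : Set G)) = Nat.card ↥(T : Subgroup G))
include hyp

/-- No element of order `r` of `N(S)` centralises an involution of `S`. -/
theorem not_commute_normalizer {S : Sylow 2 G} {u : G} (hu : orderOf u = 2)
    (huS : u ∈ (S : Subgroup G)) {y : G} (hy : orderOf y = c.r)
    (hyN : y ∈ normalizer ((S : Subgroup G) : Set G)) : ¬ Commute y u := by
  intro hyu
  haveI := Fact.mk c.hr
  obtain ⟨T₀, hT₀⟩ := hyp y hy
  set Cy := centralizer ({y} : Set G) with hCy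
  have hu' : IsPGroup 2 ↥(zpowers (⟨u, mem_cent.2 hyu.symm⟩ : ↥Cy)) :=
    IsPGroup.of_card (n := 1) (by rw [Nat.card_zpowers, orderOf_mk, hu, pow_one])
  obtain ⟨T₁, hT₁⟩ := hu'.exists_le_sylow
  set T := (T₁ : Subgroup ↥Cy).map Cy.subtype with hTdef
  have hTp : IsPGroup 2 ↥T := T₁.2.map _
  have huT : u ∈ T := ⟨_, hT₁ (mem_zpowers _), rfl⟩
  have hTcard : Nat.card ↥(S : Subgroup G) ≤ 2 * Nat.card ↥T := by
    have hp : IsPGroup 2 ↥(((T₀ : Subgroup G) ⊓ Cy).subgroupOf Cy) :=
      (T₀.2.to_le inf_le_left).comap_subtype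
    obtain ⟨T₂, hT₂⟩ := hp.exists_le_sylow
    rw [Nat.card_congr (S.equiv T₀).toEquiv, ← hT₀, hTdef, card_map_of_injective (subtype_injective _),
      Nat.card_congr (T₁.equiv T₂).toEquiv]
    refine Nat.mul_le_mul le_rfl ?_
    rw [← Nat.card_congr (subgroupOfEquivOfLe (inf_le_right : (T₀ : Subgroup G) ⊓ Cy ≤ Cy)).toEquiv]
    exact card_le_of_le hT₂
  have hTC : T ≤ centralizer ({u} : Set G) := fun a ha => mem_cent.2 (c.commute_two hTp ha huT)
  set X := core u ⊔ (S : Subgroup G) with hX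
  have hSC := c.sylow_le_centralizer huS
  have hXN := c.le_normalizer_core_sup_sylow hu huS
  -- `T ≤ X`
  have hTX : T ≤ X := by
    intro a ha
    have hpa : IsPGroup 2 ↥((T.subgroupOf (centralizer ({u} : Set G)))) := hTp.comap_subtype
    obtain ⟨R, hR⟩ := hpa.exists_le_sylow
    obtain ⟨g, hg⟩ := MulAction.exists_smul_eq ↥(centralizer ({u} : Set G)) (S.subtype hSC) R
    have h1 : (⟨a, hTC ha⟩ : ↥(centralizer ({u} : Set G))) ∈
        ((g • S.subtype hSC : Sylow 2 ↥(centralizer ({u} : Set G))) : Subgroup _) :=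
      hg ▸ hR (mem_subgroupOf.2 ha)
    rw [Sylow.coe_subgroup_smul, mem_smul_pointwise_iff_exists] at h1
    obtain ⟨σ, hσ, e⟩ := h1
    have hσS : (σ : G) ∈ X := mem_sup_right (mem_subgroupOf.1 hσ)
    have : a = (g : G) * σ * (g : G)⁻¹ := (congrArg Subtype.val e).symm
    rw [this]
    exact (mem_normalizer_iff.1 (hXN g.2) _).1 hσS
  -- conjugate `T` into `S` inside `X`
  obtain ⟨R, hR⟩ := (hTp.comap_subtype (K := X)).exists_le_sylow
  obtain ⟨w, hw⟩ := MulAction.exists_smul_eq ↥X (S.subtype (le_sup_right : (S : Subgroup G) ≤ X)) R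
  obtain ⟨o, ho, σ, hσ, hwe⟩ := c.mem_core_sup huS w.2
  have hTS : ∀ a ∈ T, o⁻¹ * a * o ∈ (S : Subgroup G) := by
    intro a ha
    have h1 : (⟨a, hTX ha⟩ : ↥X) ∈
        ((w • S.subtype le_sup_right : Sylow 2 ↥X) : Subgroup _) := hw ▸ hR (mem_subgroupOf.2 ha)
    rw [Sylow.coe_subgroup_smul, mem_smul_pointwise_iff_exists] at h1
    obtain ⟨τ, hτ, e⟩ := h1
    have : a = (w : G) * τ * (w : G)⁻¹ := (congrArg Subtype.val e).symm
    rw [this, hwe, show o⁻¹ * (o * σ * (τ : G) * (o * σ)⁻¹) * o = σ * τ * σ⁻¹ by group]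
    exact mul_mem (mul_mem hσ (mem_subgroupOf.1 hτ)) (inv_mem hσ)
  -- `y` centralises the conjugate of `T`
  have hcomm : ∀ a ∈ T, Commute y (o⁻¹ * a * o) := by
    intro a ha
    set b := o⁻¹ * a * o with hb
    have hbS := hTS a ha
    have hya : Commute y a := by
      obtain ⟨a', -, rfl⟩ := ha
      exact (mem_cent.1 a'.2).symm
    have hycore : y ∈ normalizer (core u : Set G) :=
      centralizer_le_normalizer_core u (mem_cent.2 hyu)
    set o₁ := y⁻¹ * o⁻¹ * y * o with ho₁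
    have ho₁c : o₁ ∈ core u := by
      refine mul_mem ?_ ho
      have := (mem_normalizer_iff.1 (inv_mem hycore) o⁻¹).1 (inv_mem ho)
      rwa [inv_inv] at this
    have h1 : o₁ * b * o₁⁻¹ = y⁻¹ * b * y := by
      calc o₁ * b * o₁⁻¹ = y⁻¹ * o⁻¹ * (y * a * y⁻¹) * o * y := by rw [ho₁, hb]; group
        _ = _ := by rw [hya.eq, mul_inv_cancel_right, hb]; group
    have hm : o₁ * b * o₁⁻¹ * b⁻¹ ∈ core u ⊓ (S : Subgroup G) := by
      refine Subgroup.mem_inf.2 ⟨?_, ?_⟩
      · have hbN := c.sylow_le_normalizer_core huS hbS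
        rw [show o₁ * b * o₁⁻¹ * b⁻¹ = o₁ * (b * o₁⁻¹ * b⁻¹) by group]
        exact mul_mem ho₁c ((mem_normalizer_iff.1 hbN _).1 (inv_mem ho₁c))
      · rw [h1]
        refine mul_mem ?_ (inv_mem hbS)
        have := (mem_normalizer_iff.1 (inv_mem hyN) b).1 hbS
        rwa [inv_inv] at this
    rw [core_inf_eq_bot u S.2, mem_bot, h1, mul_inv_eq_one] at hm
    show y * b = b * y
    calc y * b = y * (y⁻¹ * b * y) := by rw [hm]
      _ = b * y := by group
  -- so `y` centralises `S`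
  set B := (S : Subgroup G) ⊓ centralizer ({y} : Set G) with hB
  have hBcard : Nat.card ↥(S : Subgroup G) ≤ 2 * Nat.card ↥B := by
    refine hTcard.trans (Nat.mul_le_mul le_rfl (Nat.card_le_card_of_injective
      (fun a : T => (⟨o⁻¹ * a * o, hTS a a.2, mem_cent.2 (hcomm a a.2).symm⟩ : ↥B)) ?_))
    intro a a' h
    exact Subtype.ext (mul_left_cancel (mul_right_cancel (congrArg Subtype.val h)))
  have hall : ∀ a ∈ (S : Subgroup G), Commute a y := by
    intro a ha
    by_contra hay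
    have hidx : (B.subgroupOf (S : Subgroup G)).index = 2 := by
      have h1 := card_mul_index (B.subgroupOf (S : Subgroup G))
      rw [Nat.card_congr (subgroupOfEquivOfLe (inf_le_left : B ≤ (S : Subgroup G))).toEquiv] at h1
      change Nat.card ↥B * _ = _ at h1
      have h2 : (B.subgroupOf (S : Subgroup G)).index ≤ 2 := by
        by_contra h
        have := Nat.mul_lt_mul_of_pos_left (not_le.1 h) (Nat.card_pos (α := ↥B))
        omega
      have h3 : (B.subgroupOf (S : Subgroup G)).index ≠ 1 := fun h => by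
        have hm : (⟨a, ha⟩ : ↥(S : Subgroup G)) ∈ B.subgroupOf (S : Subgroup G) := by
          rw [index_eq_one.1 h]; exact mem_top _
        exact hay (mem_cent.1 (mem_subgroupOf.1 hm).2)
      have h4 : (B.subgroupOf (S : Subgroup G)).index ≠ 0 := index_ne_zero_of_finite
      omega
    have hya : y * a * y⁻¹ ∈ (S : Subgroup G) := (mem_normalizer_iff.1 hyN a).1 ha
    have hb : (⟨a, ha⟩ : ↥(S : Subgroup G))⁻¹ * ⟨y * a * y⁻¹, hya⟩ ∈ B.subgroupOf (S : Subgroup G) := by
      rw [mul_mem_iff_of_index_two hidx]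
      refine iff_of_false (fun h => hay ?_) (fun h => hay ?_)
      · exact mem_cent.1 (mem_subgroupOf.1 (inv_mem_iff.1 h)).2
      · have h' : Commute (y * a * y⁻¹) y := mem_cent.1 (mem_subgroupOf.1 h).2
        have := ((Commute.refl y).inv_left.mul_left h').mul_left (Commute.refl y)
        rwa [show y⁻¹ * (y * a * y⁻¹) * y = a by group] at this
    set b := a⁻¹ * (y * a * y⁻¹) with hbdef
    have hbB : b ∈ B := mem_subgroupOf.1 hb
    have hby : Commute y b := (mem_cent.1 hbB.2).symm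
    have hpow : ∀ n : ℕ, y ^ n * a * (y ^ n)⁻¹ = a * b ^ n := by
      intro n
      induction n with
      | zero => simp
      | succ n ih =>
        rw [pow_succ' y, show y * y ^ n * a * (y * y ^ n)⁻¹ = y * (y ^ n * a * (y ^ n)⁻¹) * y⁻¹ by group,
          ih, show y * (a * b ^ n) * y⁻¹ = (y * a * y⁻¹) * (y * b ^ n * y⁻¹) by group,
          (hby.pow_right n).eq, mul_inv_cancel_right, pow_succ' b, ← mul_assoc a b, hbdef]
        group
    have h1 := hpow c.r
    rw [← hy, pow_orderOf_eq_one, one_mul, inv_one, mul_one, hy, left_eq_mul] at h1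
    have hb1 : b = 1 := by
      by_contra hne
      have := orderOf_dvd_of_pow_eq_one h1
      rw [c.orderOf_two_of_mem S.2 hbB.1 hne] at this
      exact c.hr2 ((Nat.prime_dvd_prime_iff_eq Nat.prime_two c.hr).1 this).symm
    rw [hbdef, inv_mul_eq_one] at hb1
    exact hay (mul_inv_eq_iff_eq_mul.1 hb1.symm).symm
  have hyS : y ∈ (S : Subgroup G) := by
    rw [← c.centralizer_sylow S]; exact fun a ha => (hall a ha).eq
  have h1 : y ≠ 1 := fun e => by rw [e, orderOf_one] at hy; exact c.hr.ne_one hy.symm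
  exact c.hr2 (hy.symm.trans (c.orderOf_two_of_mem S.2 hyS h1))

theorem centralizer_le_core_sup {S : Sylow 2 G} {u : G} (hu : orderOf u = 2)
    (huS : u ∈ (S : Subgroup G)) : centralizer ({u} : Set G) ≤ core u ⊔ (S : Subgroup G) := by
  set X := core u ⊔ (S : Subgroup G)
  intro g hg
  have hgX := c.le_normalizer_core_sup_sylow hu huS hg
  have hSX : (S : Subgroup G) ≤ X := le_sup_right
  set gS : Subgroup G := ((S : Subgroup G)).map (MulAut.conj g).toMonoidHom with hgS
  have hle : gS ≤ X := by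
    rintro _ ⟨a, ha, rfl⟩
    exact (mem_normalizer_iff.1 hgX a).1 (hSX ha)
  obtain ⟨R, hR⟩ := ((S.2.map (MulAut.conj g).toMonoidHom).comap_subtype (K := X)).exists_le_sylow
  obtain ⟨w, hw⟩ := MulAction.exists_smul_eq ↥X (S.subtype hSX) R
  have hn : (w : G)⁻¹ * g ∈ normalizer ((S : Subgroup G) : Set G) := by
    have key : ∀ a ∈ (S : Subgroup G), (w : G)⁻¹ * g * a * ((w : G)⁻¹ * g)⁻¹ ∈ (S : Subgroup G) := by
      intro a ha
      have h1 : (⟨g * a * g⁻¹, hle ⟨a, ha, rfl⟩⟩ : ↥X) ∈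
          ((w • S.subtype hSX : Sylow 2 ↥X) : Subgroup _) :=
        hw ▸ hR (mem_subgroupOf.2 ⟨a, ha, rfl⟩)
      rw [Sylow.coe_subgroup_smul, mem_smul_pointwise_iff_exists] at h1
      obtain ⟨τ, hτ, e⟩ := h1
      have e' : g * a * g⁻¹ = (w : G) * τ * (w : G)⁻¹ := (congrArg Subtype.val e).symm
      rw [show (w : G)⁻¹ * g * a * ((w : G)⁻¹ * g)⁻¹ = (w : G)⁻¹ * (g * a * g⁻¹) * w by group, e',
        show (w : G)⁻¹ * ((w : G) * τ * (w : G)⁻¹) * w = τ by group]
      exact mem_subgroupOf.1 hτ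
    refine mem_normalizer_iff_map_conj_eq.2 (Subgroup.eq_of_le_of_card_ge ?_
      (card_map_of_injective (MulAut.conj _).injective).ge)
    rintro _ ⟨a, ha, rfl⟩
    exact key a ha
  have hnC : Commute ((w : G)⁻¹ * g) u := by
    have hwC : (w : G) ∈ centralizer ({u} : Set G) :=
      (sup_le (core_le u) (c.sylow_le_centralizer huS) : X ≤ _) w.2
    exact (mem_cent.1 hwC).inv_left.mul_left (mem_cent.1 hg)
  have hnS : (w : G)⁻¹ * g ∈ X := by
    rcases c.spec ((w : G)⁻¹ * g) with e | e | e | e | e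
    · rw [orderOf_eq_one_iff.1 e]; exact one_mem _
    · exact hSX (c.mem_of_two hn (by rw [← sq, ← e, pow_orderOf_eq_one]))
    · exact absurd hnC (c.not_commute_normalizer hyp hu huS e hn)
    · exact absurd hnC.symm (c.not_commute_s e Nat.prime_two (Ne.symm c.hs2) hu)
    · exact absurd (hnC.pow_left 2) (c.not_commute_normalizer hyp hu huS (c.orderOf_sq e) (pow_mem hn 2))
  have := mul_mem w.2 hnS
  rwa [mul_inv_cancel_left] at this

/-- The elements of even order fill less than a third of the group. -/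
theorem three_even_lt : 3 * (numOrd G 2 + numOrd G (2 * c.r)) < Nat.card G := by
  classical
  haveI := Fintype.ofFinite G
  obtain ⟨S⟩ : Nonempty (Sylow 2 G) := inferInstance
  obtain ⟨m, hmN, hm⟩ := c.exists_odd_normalizer S
  set q := Nat.card ↥(S : Subgroup G)
  -- every involution is conjugate into `S`
  have hconj : ∀ t : {t : G // orderOf t = 2}, ∃ g : G, g⁻¹ * t * g ∈ (S : Subgroup G) := by
    intro t
    obtain ⟨T, hT⟩ := (IsPGroup.of_card (n := 1) (G := ↥(zpowers (t : G)))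
      (by rw [Nat.card_zpowers, t.2, pow_one])).exists_le_sylow
    obtain ⟨g, hg⟩ := MulAction.exists_smul_eq G S T
    have h1 : (t : G) ∈ ((g • S : Sylow 2 G) : Subgroup G) := hg ▸ hT (mem_zpowers _)
    rw [Sylow.coe_subgroup_smul, mem_smul_pointwise_iff_exists] at h1
    obtain ⟨σ, hσ, e⟩ := h1
    exact ⟨g, by rw [← e]; simpa [mul_assoc] using hσ⟩
  choose gt hgt using hconj
  have hu2 : ∀ t : {t : G // orderOf t = 2}, orderOf ((gt t)⁻¹ * t * gt t) = 2 := fun t => by
    have h := orderOf_conj (gt t)⁻¹ (t : G)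
    rw [inv_inv] at h
    exact h.trans t.2
  -- the orbit of an involution under `⟨m⟩` has at least three elements
  have hfix : ∀ t : {t : G // orderOf t = 2}, ∀ j : ℕ, 0 < j → j < 3 →
      ¬ Commute (m ^ j) ((gt t)⁻¹ * t * gt t) := by
    intro t j hj0 hj3
    have hdvd : ∀ p : ℕ, p.Prime → p ≠ 2 → orderOf m = p → orderOf (m ^ j) = p := fun p hp hp2 e => by
      rw [orderOf_pow' m hj0.ne', e, Nat.Coprime.gcd_eq_one, Nat.div_one]
      refine hp.coprime_iff_not_dvd.2 fun hd => ?_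
      have := Nat.le_of_dvd hj0 hd
      have := hp.two_le
      omega
    rcases hm with e | e
    · exact c.not_commute_normalizer hyp (hu2 t) (hgt t) (hdvd _ c.hr c.hr2 e) (pow_mem hmN j)
    · exact fun h => c.not_commute_s (hdvd _ c.hs c.hs2 e) Nat.prime_two (Ne.symm c.hs2) (hu2 t) h.symm
  let L := Σ t : {t : G // orderOf t = 2}, ↥(centralizer ({(t : G)} : Set G)) × Fin 3
  let R := G × {u : ↥(S : Subgroup G) // u ≠ 1}
  let f : L → R := fun p => ⟨(p.2.1 : G) * gt p.1 * (m ^ (p.2.2 : ℕ))⁻¹,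
    ⟨⟨m ^ (p.2.2 : ℕ) * ((gt p.1)⁻¹ * p.1 * gt p.1) * (m ^ (p.2.2 : ℕ))⁻¹,
      (mem_normalizer_iff.1 (pow_mem hmN _) _).1 (hgt p.1)⟩, fun e => by
        have h := congrArg (fun z : ↥(S : Subgroup G) => orderOf (z : G)) e
        simp only [OneMemClass.coe_one, orderOf_one] at h
        rw [orderOf_conj, hu2] at h
        omega⟩⟩
  have hf : Function.Injective f := by
    rintro ⟨t, a, i⟩ ⟨t', a', i'⟩ h
    have h1 : (a : G) * gt t * (m ^ (i : ℕ))⁻¹ = (a' : G) * gt t' * (m ^ (i' : ℕ))⁻¹ :=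
      congrArg Prod.fst h
    have h2 : m ^ (i : ℕ) * ((gt t)⁻¹ * t * gt t) * (m ^ (i : ℕ))⁻¹ =
        m ^ (i' : ℕ) * ((gt t')⁻¹ * t' * gt t') * (m ^ (i' : ℕ))⁻¹ :=
      congrArg (fun z : R => ((z.2 : ↥(S : Subgroup G)) : G)) h
    have key : ∀ (t : {t : G // orderOf t = 2}) (a : ↥(centralizer ({(t : G)} : Set G))) (i : ℕ),
        ((a : G) * gt t * (m ^ i)⁻¹) * (m ^ i * ((gt t)⁻¹ * t * gt t) * (m ^ i)⁻¹) *
          ((a : G) * gt t * (m ^ i)⁻¹)⁻¹ = t := fun t a i => by
      rw [show ((a : G) * gt t * (m ^ i)⁻¹) * (m ^ i * ((gt t)⁻¹ * t * gt t) * (m ^ i)⁻¹) *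
          ((a : G) * gt t * (m ^ i)⁻¹)⁻¹ = (a : G) * t * (a : G)⁻¹ by group]
      rw [(mem_cent.1 a.2).eq, mul_inv_cancel_right]
    have et : t = t' := Subtype.ext ((key t a i).symm.trans (by rw [h1, h2, key t' a' i']))
    subst et
    have ei : i = i' := by
      by_contra hne
      have aux : ∀ i i' : Fin 3, (i : ℕ) < i' →
          m ^ (i : ℕ) * ((gt t)⁻¹ * t * gt t) * (m ^ (i : ℕ))⁻¹ =
          m ^ (i' : ℕ) * ((gt t)⁻¹ * t * gt t) * (m ^ (i' : ℕ))⁻¹ → False := by
        intro i i' hlt e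
        obtain ⟨d, hd⟩ := Nat.exists_eq_add_of_lt hlt
        refine hfix t (d + 1) (by omega) (by omega) (mul_inv_eq_iff_eq_mul.1 ?_)
        refine mul_left_cancel (a := m ^ (i : ℕ)) (mul_right_cancel (b := (m ^ (i : ℕ))⁻¹) ?_)
        rw [e, hd, show (i : ℕ) + d + 1 = i + (d + 1) by ring, pow_add]
        group
      rcases lt_or_gt_of_ne (Fin.val_ne_of_ne hne) with h' | h'
      exacts [aux i i' h' h2, aux i' i h' h2.symm]
    subst ei
    have : a = a' := Subtype.ext (mul_right_cancel (mul_right_cancel h1))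
    rw [this]
  have hcardR : Nat.card R = Nat.card G * (q - 1) := by
    rw [Nat.card_prod]
    congr 1
    haveI := Fintype.ofFinite ↥(S : Subgroup G)
    rw [Nat.card_eq_fintype_card, Fintype.card_subtype_compl, Fintype.card_subtype_eq,
      ← Nat.card_eq_fintype_card]
  have hcardL : 3 * ∑ t : {t : G // orderOf t = 2},
      Nat.card ↥(centralizer ({(t : G)} : Set G)) ≤ Nat.card G * (q - 1) := by
    rw [← hcardR, Finset.mul_sum]
    refine le_trans (le_of_eq ?_) (Nat.card_le_card_of_injective f hf)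
    rw [Nat.card_sigma]
    exact Finset.sum_congr rfl fun t _ => by rw [Nat.card_prod, Nat.card_fin, mul_comm]
  -- each involution commutes with at most `|C(t)|/q` elements killed by `r`
  have hper : ∀ t : {t : G // orderOf t = 2},
      q * Nat.card {o : G // Commute (t : G) o ∧ o ^ c.r = 1} ≤
        Nat.card ↥(centralizer ({(t : G)} : Set G)) := by
    intro t
    obtain ⟨T, hT⟩ := (IsPGroup.of_card (n := 1) (G := ↥(zpowers (t : G)))
      (by rw [Nat.card_zpowers, t.2, pow_one])).exists_le_sylow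
    have htT : (t : G) ∈ (T : Subgroup G) := hT (mem_zpowers _)
    rw [show q = Nat.card ↥(T : Subgroup G) from Nat.card_congr (S.equiv T).toEquiv, ← Nat.card_prod]
    have hmem : ∀ o : {o : G // Commute (t : G) o ∧ o ^ c.r = 1}, (o : G) ∈ core (t : G) := fun o =>
      c.mem_core_of_odd htT (c.centralizer_le_core_sup hyp t.2 htT (mem_cent.2 o.2.1.symm))
        ((c.hr.odd_of_ne_two c.hr2).of_dvd_nat (orderOf_dvd_of_pow_eq_one o.2.2))
    refine Nat.card_le_card_of_injective
      (fun p : ↥(T : Subgroup G) × {o : G // Commute (t : G) o ∧ o ^ c.r = 1} =>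
        (⟨(p.2 : G) * p.1, mul_mem (mem_cent.2 p.2.2.1.symm)
          (c.sylow_le_centralizer htT p.1.2)⟩ : ↥(centralizer ({(t : G)} : Set G)))) ?_
    rintro ⟨a, o⟩ ⟨a', o'⟩ h
    have h1 : (o : G) * a = o' * a' := congrArg Subtype.val h
    have h2 : (o' : G)⁻¹ * o = (a' : G) * (a : G)⁻¹ := by
      rw [eq_mul_inv_iff_mul_eq, mul_assoc, h1, inv_mul_cancel_left]
    have h3 : (o' : G)⁻¹ * o ∈ core (t : G) ⊓ (T : Subgroup G) :=
      Subgroup.mem_inf.2 ⟨mul_mem (inv_mem (hmem o')) (hmem o), h2 ▸ mul_mem a'.2 (inv_mem a.2)⟩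
    rw [core_inf_eq_bot _ T.2, mem_bot, inv_mul_eq_one] at h3
    have eo : o = o' := Subtype.ext h3.symm
    subst eo
    rw [Subtype.ext (mul_left_cancel h1) (a1 := a) (a2 := a')]
  have hNe : numOrd G 2 + numOrd G (2 * c.r) =
      ∑ t : {t : G // orderOf t = 2}, Nat.card {o : G // Commute (t : G) o ∧ o ^ c.r = 1} := by
    rw [c.card_even, Nat.card_congr c.evenEquiv, Nat.card_sigma]
  have h3 : q * (3 * (numOrd G 2 + numOrd G (2 * c.r))) ≤ Nat.card G * (q - 1) := by
    refine le_trans (le_of_eq ?_) ((Nat.mul_le_mul le_rfl (Finset.sum_le_sum fun t _ => hper t)).trans hcardL)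
    rw [hNe, ← Finset.mul_sum]
    ring
  by_contra hcon
  have hq : 0 < q := Nat.card_pos
  have hG : 0 < Nat.card G := Nat.card_pos
  obtain ⟨q', hq'⟩ : ∃ q', q = q' + 1 := ⟨q - 1, by omega⟩
  rw [hq', Nat.add_sub_cancel] at h3
  have := Nat.mul_le_mul (le_refl (q' + 1)) (not_lt.1 hcon)
  nlinarith

end

/-- All odd cores of involution centralisers are trivial. -/
theorem core_eq_bot {t : G} (ht : orderOf t = 2) : core t = ⊥ := by
  by_contra hne
  haveI := Fact.mk c.hr
  obtain ⟨S, hS⟩ := (IsPGroup.of_card (n := 1) (G := ↥(zpowers t))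
    (by rw [Nat.card_zpowers, ht, pow_one])).exists_le_sylow
  obtain ⟨x, hx, hxS⟩ := c.exists_hyperplane ht (hS (mem_zpowers t)) hne
  have hyp : ∀ y : G, orderOf y = c.r → ∃ T : Sylow 2 G,
      2 * Nat.card ↥((T : Subgroup G) ⊓ centralizer ({y} : Set G)) = Nat.card ↥(T : Subgroup G) := by
    intro y hy
    obtain ⟨φ, rfl⟩ := c.aut x y (hx.trans hy.symm)
    refine ⟨S.mapSurjective (f := φ.toMonoidHom) φ.surjective, ?_⟩
    have e : ((S.mapSurjective (f := φ.toMonoidHom) φ.surjective : Sylow 2 G) : Subgroup G) ⊓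
        centralizer ({φ x} : Set G) =
        ((S : Subgroup G) ⊓ centralizer ({x} : Set G)).map φ.toMonoidHom := by
      show (S : Subgroup G).map φ.toMonoidHom ⊓ _ = _
      ext a
      constructor
      · rintro ⟨⟨b, hb, rfl⟩, hc⟩
        refine ⟨b, ⟨hb, mem_cent.2 ?_⟩, rfl⟩
        have := (mem_cent.1 hc).map φ.symm
        simpa using this
      · rintro ⟨b, ⟨hb, hbc⟩, rfl⟩
        exact ⟨⟨b, hb, rfl⟩, mem_cent.2 ((mem_cent.1 hbc).map φ)⟩
    rw [e]
    show _ = Nat.card ↥((S : Subgroup G).map φ.toMonoidHom)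
    rw [card_map_of_injective φ.injective,
      card_map_of_injective φ.injective, hxS]
  have h1 := c.three_even_lt hyp
  have h2 := c.r_mul_le
  have h3 := c.two_s_lt
  have h4 := c.card_eq
  have : 3 ≤ c.r := by have := c.hr.two_le; have := c.hr2; omega
  have := Nat.mul_le_mul_right (numOrd G c.r) this
  omega

end Cfsg.Agent.H67.TwoR.Ctx
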