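import Cfsg.Agent.H67.TwoR.Basic

/-!
Counting elements by order in a group with element orders `1, 2, r, s, 2r`.
-/

set_option autoImplicit false
set_option linter.unusedSectionVars false
set_option linter.style.haveILetI false

namespace Cfsg.Agent.H67.TwoR

open Subgroup

universe u

variable {G : Type u} [Group G] [Finite G]

/-- The number of elements of order `n`. -/
noncomputable def numOrd (G : Type u) [Group G] (n : ℕ) : ℕ := Nat.card {g : G // orderOf g = n}

namespace Ctx

variable (c : Ctx G)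
include c

theorem card_eq : Nat.card G =
    1 + numOrd G 2 + numOrd G c.r + numOrd G c.s + numOrd G (2 * c.r) := by
  classical
  haveI := Fintype.ofFinite G
  have hr := c.hr.two_le
  have hs := c.hs.two_le
  have h2 : 2 * c.r ≠ c.s := fun e => Nat.not_prime_mul (by norm_num) c.hr.ne_one (e ▸ c.hs)
  have key : Finset.image orderOf (Finset.univ : Finset G) ⊆ {1, 2, c.r, c.s, 2 * c.r} := by
    intro n hn
    obtain ⟨g, -, rfl⟩ := Finset.mem_image.1 hn
    simpa using c.spec g
  have := Finset.card_eq_sum_card_fiberwise (f := orderOf) (s := (Finset.univ : Finset G))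
    (t := ({1, 2, c.r, c.s, 2 * c.r} : Finset ℕ))
    fun g _ => key (Finset.mem_image_of_mem _ (Finset.mem_univ g))
  rw [Nat.card_eq_fintype_card, ← Finset.card_univ, this]
  have h1 : (Finset.univ.filter fun g : G => orderOf g = 1).card = 1 := by
    rw [Finset.card_eq_one]
    exact ⟨1, by ext g; simp⟩
  have hne := c.hr2; have hne' := c.hs2; have hne'' := c.hrs
  rw [Finset.sum_insert (by simp; omega), Finset.sum_insert (by simp; omega),
    Finset.sum_insert (by simp; omega), Finset.sum_insert (by simp; omega), Finset.sum_singleton, h1]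
  simp only [numOrd, Nat.card_eq_fintype_card, Fintype.card_subtype]
  omega

/-- Elements of even order correspond to pairs (involution, commuting element killed by `r`). -/
noncomputable def evenEquiv : {g : G // orderOf g = 2 ∨ orderOf g = 2 * c.r} ≃
    Σ t : {t : G // orderOf t = 2}, {o : G // Commute (t : G) o ∧ o ^ c.r = 1} where
  toFun g :=
    have hg2 : ((g : G) ^ 2) ^ c.r = 1 := by
      rw [← pow_mul, ← orderOf_dvd_iff_pow_eq_one]
      rcases g.2 with e | e <;> rw [e]
      exact dvd_mul_right _ _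
    ⟨⟨(g : G) ^ c.r, orderOf_eq_prime (by rw [pow_right_comm, hg2]) fun e => by
      have h := orderOf_dvd_of_pow_eq_one e
      rcases g.2 with e' | e' <;> rw [e'] at h
      · exact c.hr2 ((Nat.prime_dvd_prime_iff_eq Nat.prime_two c.hr).1 h).symm
      · have := Nat.le_of_dvd c.hr.pos h
        have := c.hr.pos
        omega⟩,
    ⟨(g : G) ^ (c.r + 1), (Commute.refl _).pow_pow _ _, by
      obtain ⟨k, hk⟩ : 2 ∣ c.r + 1 := (c.hr.odd_of_ne_two c.hr2).add_one.two_dvd
      rw [hk, pow_mul, ← pow_mul, mul_comm k, pow_mul, hg2, one_pow]⟩⟩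
  invFun p := ⟨(p.1 : G) * p.2, by
    rcases eq_or_ne (p.2 : G) 1 with h | h
    · left; rw [h, mul_one]; exact p.1.2
    · right
      have ho : orderOf (p.2 : G) = c.r := haveI := Fact.mk c.hr; orderOf_eq_prime p.2.2.2 h
      rw [p.2.2.1.orderOf_mul_eq_mul_orderOf_of_coprime (by
        rw [p.1.2, ho]; exact (Nat.coprime_primes Nat.prime_two c.hr).2 (Ne.symm c.hr2)), p.1.2, ho]⟩
  left_inv g := Subtype.ext (by
    show (g : G) ^ c.r * (g : G) ^ (c.r + 1) = g
    rw [← pow_add, show c.r + (c.r + 1) = 2 * c.r + 1 by ring, pow_succ]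
    have : (g : G) ^ (2 * c.r) = 1 := by
      rw [← orderOf_dvd_iff_pow_eq_one]
      rcases g.2 with e | e <;> rw [e]
      exact dvd_mul_right _ _
    rw [this, one_mul])
  right_inv p := by
    obtain ⟨⟨t, ht⟩, ⟨o, hto, ho⟩⟩ := p
    have ht2 : t ^ 2 = 1 := by rw [← ht]; exact pow_orderOf_eq_one t
    obtain ⟨k, hk⟩ := c.hr.odd_of_ne_two c.hr2
    have htr : t ^ c.r = t := by rw [hk, pow_succ, pow_mul, ht2, one_pow, one_mul]
    have e1 : (t * o) ^ c.r = t := by rw [hto.mul_pow, htr, ho, mul_one]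
    have e2 : (t * o) ^ (c.r + 1) = o := by
      rw [hto.mul_pow, pow_succ o, ho, one_mul, pow_succ t, htr, ← sq, ht2, one_mul]
    refine Sigma.subtype_ext (Subtype.ext ?_) ?_
    · exact e1
    · exact e2

theorem card_even : numOrd G 2 + numOrd G (2 * c.r) =
    Nat.card {g : G // orderOf g = 2 ∨ orderOf g = 2 * c.r} := by
  classical
  haveI := Fintype.ofFinite G
  simp only [numOrd, Nat.card_eq_fintype_card, Fintype.card_subtype]
  rw [Finset.filter_or, Finset.card_union_of_disjoint]
  rw [Finset.disjoint_filter]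
  intro g _ e e'
  have := c.hr.two_le
  omega

/-- Each element of order `r` commutes with at least `r` involutions. -/
theorem r_le_invols [Fact c.r.Prime] {x : G} (hx : orderOf x = c.r) :
    c.r ≤ Nat.card {t : G // orderOf t = 2 ∧ Commute t x} := by
  classical
  obtain ⟨P, hP⟩ := c.exists_sylow_le c.r_dvd hx
  obtain ⟨t, ht, htx⟩ := c.exists_commute_two hx
  letI : MulAction ↥(P : Subgroup G) {t : G // orderOf t = 2 ∧ Commute t x} :=
    { smul := fun a u => ⟨(a : G) * u * (a : G)⁻¹, (orderOf_conj _ _).trans u.2.1, by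
        have h : Commute (a : G) x := mem_cent.1 (hP a.2)
        exact (h.mul_left u.2.2).mul_left h.inv_left⟩
      one_smul := fun u => Subtype.ext (by show ((1 : G)) * u * (1 : G)⁻¹ = u; simp)
      mul_smul := fun a b u => Subtype.ext (by
        show ((a : G) * b) * u * ((a : G) * b)⁻¹ = a * (b * u * (b : G)⁻¹) * (a : G)⁻¹
        group) }
  set τ : {t : G // orderOf t = 2 ∧ Commute t x} := ⟨t, ht, htx⟩
  obtain ⟨n, hn⟩ := P.2.card_orbit τ
  rcases n with _ | n
  · exfalso
    obtain ⟨S, hS⟩ := c.exists_sylow_le c.two_dvd ht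
    refine c.not_both (Or.inl ht) S P hS fun a ha => mem_cent.2 ?_
    have h1 : Subsingleton (MulAction.orbit ↥(P : Subgroup G) τ) :=
      (Nat.card_eq_one_iff_unique.1 (by simpa using hn)).1
    have h2 : (((⟨a, ha⟩ : ↥(P : Subgroup G)) • τ : {t : G // orderOf t = 2 ∧ Commute t x}) : G) = t :=
      congrArg (fun z => ((z : {t : G // orderOf t = 2 ∧ Commute t x}) : G))
        (congrArg Subtype.val (h1.elim
        ⟨_, MulAction.mem_orbit τ (⟨a, ha⟩ : ↥(P : Subgroup G))⟩ ⟨τ, MulAction.mem_orbit_self τ⟩))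
    exact mul_inv_eq_iff_eq_mul.1 (h2 : a * t * a⁻¹ = t)
  · calc c.r ≤ Nat.card (MulAction.orbit ↥(P : Subgroup G) τ) := by
          rw [hn]; exact Nat.le_self_pow n.succ_ne_zero _
      _ ≤ _ := Nat.card_le_card_of_injective _ Subtype.val_injective

/-- `r` times the number of elements of order `r` is at most the number of order `2r`. -/
theorem r_mul_le [Fact c.r.Prime] : c.r * numOrd G c.r ≤ numOrd G (2 * c.r) := by
  classical
  have h2 := c.hr2
  let f : (Σ x : {x : G // orderOf x = c.r}, {t : G // orderOf t = 2 ∧ Commute t (x : G)}) →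
      {g : G // orderOf g = 2 * c.r} := fun p => ⟨(p.2 : G) * p.1, by
    rw [p.2.2.2.orderOf_mul_eq_mul_orderOf_of_coprime (by
      rw [p.2.2.1, p.1.2]; exact (Nat.coprime_primes Nat.prime_two c.hr).2 (Ne.symm h2)),
      p.2.2.1, p.1.2]⟩
  have hf : Function.Injective f := by
    rintro ⟨⟨x, hx⟩, ⟨t, ht, htx⟩⟩ ⟨⟨x', hx'⟩, ⟨t', ht', htx'⟩⟩ h
    have h' : t * x = t' * x' := congrArg Subtype.val h
    have key : ∀ {t x : G}, orderOf t = 2 → orderOf x = c.r → Commute t x → (t * x) ^ c.r = t := by
      intro t x ht hx htx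
      obtain ⟨k, hk⟩ := c.hr.odd_of_ne_two c.hr2
      rw [htx.mul_pow, ← hx, pow_orderOf_eq_one, hx, mul_one, hk, pow_succ, pow_mul, ← ht,
        pow_orderOf_eq_one, one_pow, one_mul]
    have et : t = t' := by rw [← key ht hx htx, ← key ht' hx' htx', h']
    subst et
    have ex : x = x' := mul_left_cancel h'
    subst ex
    rfl
  haveI := Fintype.ofFinite G
  calc c.r * numOrd G c.r
      = ∑ _x : {x : G // orderOf x = c.r}, c.r := by
        rw [Finset.sum_const, Finset.card_univ, smul_eq_mul, numOrd, Nat.card_eq_fintype_card, mul_comm]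
    _ ≤ ∑ x : {x : G // orderOf x = c.r}, Nat.card {t : G // orderOf t = 2 ∧ Commute t (x : G)} :=
        Finset.sum_le_sum fun x _ => c.r_le_invols x.2
    _ = Nat.card (Σ x : {x : G // orderOf x = c.r}, {t : G // orderOf t = 2 ∧ Commute t (x : G)}) :=
        Nat.card_sigma.symm
    _ ≤ _ := Nat.card_le_card_of_injective f hf

/-- Every element of order `s` is central in a Sylow `s`-subgroup. -/
theorem s_bound [Fact c.s.Prime] (Q : Sylow c.s G) :
    numOrd G c.s + Nat.card (Sylow c.s G) ≤
      Nat.card (Sylow c.s G) * Nat.card ↥(center ↥(Q : Subgroup G)) := by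
  classical
  let T := Σ P : Sylow c.s G, ↥(center ↥(P : Subgroup G))
  have hex : ∀ g : {g : G // orderOf g = c.s}, ∃ P : Sylow c.s G,
      ∃ z : ↥(center ↥(P : Subgroup G)), ((z : ↥(P : Subgroup G)) : G) = g := fun g => by
    obtain ⟨P, hP⟩ := c.exists_sylow_le c.dvd_s g.2
    have hgP : (g : G) ∈ (P : Subgroup G) := by
      have hp : IsPGroup c.s ↥((P : Subgroup G) ⊔ zpowers (g : G)) :=
        P.2.to_sup_of_normal_left' (IsPGroup.of_card (n := 1)
          (by rw [Nat.card_zpowers, g.2, pow_one]))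
          (zpowers_le.2 (centralizer_le_normalizer _ fun a ha =>
            (mem_cent.1 (hP ha)).eq))
      exact (P.3 hp le_sup_left) ▸ mem_sup_right (mem_zpowers (g : G))
    exact ⟨P, ⟨⟨g, hgP⟩, mem_center_iff.2 fun a =>
      Subtype.ext (mem_cent.1 (hP a.2)).eq⟩, rfl⟩
  choose fP fz hz using hex
  let ι : {g : G // orderOf g = c.s} ⊕ Sylow c.s G → T :=
    Sum.elim (fun g => ⟨fP g, fz g⟩) (fun P => ⟨P, 1⟩)
  let val : T → G := fun z => ((z.2 : ↥(z.1 : Subgroup G)) : G)
  have hι : Function.Injective ι := by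
    rintro (g | P) (g' | P') h
    · exact congrArg Sum.inl (Subtype.ext ((hz g).symm.trans ((congrArg val h).trans (hz g'))))
    · exact absurd (by rw [← hz g, show ((fz g : ↥(fP g : Subgroup G)) : G) = 1 from congrArg val h,
        orderOf_one] : orderOf (g : G) = 1) fun e => c.hs.ne_one (g.2.symm.trans e)
    · exact absurd (by rw [← hz g', show ((fz g' : ↥(fP g' : Subgroup G)) : G) = 1 from
        congrArg val h.symm, orderOf_one] : orderOf (g' : G) = 1) fun e => c.hs.ne_one (g'.2.symm.trans e)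
    · exact congrArg Sum.inr (congrArg Sigma.fst h)
  haveI := Fintype.ofFinite (Sylow c.s G)
  calc numOrd G c.s + Nat.card (Sylow c.s G)
      = Nat.card ({g : G // orderOf g = c.s} ⊕ Sylow c.s G) := Nat.card_sum.symm
    _ ≤ Nat.card T := Nat.card_le_card_of_injective ι hι
    _ = ∑ P : Sylow c.s G, Nat.card ↥(center ↥(P : Subgroup G)) := Nat.card_sigma
    _ = _ := by
      rw [Finset.sum_congr rfl fun P _ => Nat.card_congr
        (Subgroup.centerCongr (P.equiv Q)).toEquiv, Finset.sum_const, Finset.card_univ,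
        smul_eq_mul, ← Nat.card_eq_fintype_card]

theorem two_le_card_sylow [Fact c.s.Prime] : 2 ≤ Nat.card (Sylow c.s G) := by
  haveI := c.simp
  have h1 := H36.card_sylow_ne_one (p := c.s) c.dvd_s fun k e => by
    have h := c.two_dvd
    rw [e] at h
    exact c.hs2 ((Nat.prime_dvd_prime_iff_eq Nat.prime_two c.hs).1
      (Nat.prime_two.dvd_of_dvd_pow h)).symm
  have h2 : 0 < Nat.card (Sylow c.s G) := Nat.card_pos
  omega

/-- If `k` times the centre of a Sylow `s`-subgroup fits into its normaliser, the elements of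
order `s` fill at most a `k`-th part of the group. -/
theorem s_fraction [Fact c.s.Prime] (Q : Sylow c.s G) {k : ℕ}
    (h : k * Nat.card ↥(center ↥(Q : Subgroup G)) ≤
      Nat.card ↥(normalizer ((Q : Subgroup G) : Set G))) :
    k * numOrd G c.s + 2 * k ≤ Nat.card G := by
  have h1 := c.s_bound Q
  have h2 := c.two_le_card_sylow
  have h3 := H36.card_sylow_mul_normalizer Q
  calc k * numOrd G c.s + 2 * k ≤ k * (numOrd G c.s + Nat.card (Sylow c.s G)) := by nlinarith
    _ ≤ k * (Nat.card (Sylow c.s G) * Nat.card ↥(center ↥(Q : Subgroup G))) :=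
        Nat.mul_le_mul le_rfl h1
    _ = Nat.card (Sylow c.s G) * (k * Nat.card ↥(center ↥(Q : Subgroup G))) := by ring
    _ ≤ _ := h3 ▸ Nat.mul_le_mul le_rfl h

/-- The centre of a nonabelian Sylow `s`-subgroup is at most a third of it. -/
theorem three_center_le [Fact c.s.Prime] (Q : Sylow c.s G)
    (hQ : ¬ IsMulCommutative ↥(Q : Subgroup G)) :
    3 * Nat.card ↥(center ↥(Q : Subgroup G)) ≤
      Nat.card ↥(normalizer ((Q : Subgroup G) : Set G)) := by
  refine le_trans ?_ (card_le_of_le le_normalizer)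
  have hne : center ↥(Q : Subgroup G) ≠ ⊤ := fun e =>
    hQ ⟨⟨fun a b => mem_center_iff.1 (e ▸ mem_top b) a⟩⟩
  obtain ⟨k, hk⟩ := Q.2.index (center ↥(Q : Subgroup G))
  have h3 : 3 ≤ (center ↥(Q : Subgroup G)).index := by
    rw [hk]
    rcases k with _ | k
    · exact absurd (index_eq_one.1 (by rw [hk, pow_zero])) hne
    · have := c.hs.two_le
      have := c.hs2
      calc 3 ≤ c.s := by omega
        _ ≤ _ := Nat.le_self_pow k.succ_ne_zero _
  rw [← card_mul_index (center ↥(Q : Subgroup G)), mul_comm]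
  exact Nat.mul_le_mul le_rfl h3

/-- Twice the elements of order `s` are fewer than the group. -/
theorem two_s_lt : 2 * numOrd G c.s + 4 ≤ Nat.card G := by
  haveI := Fact.mk c.hs
  obtain ⟨Q⟩ : Nonempty (Sylow c.s G) := inferInstance
  refine c.s_fraction Q ?_
  by_cases hQ : IsMulCommutative ↥(Q : Subgroup G)
  · haveI := c.simp
    obtain ⟨d, hd⟩ := card_dvd_of_le
      (le_normalizer : (Q : Subgroup G) ≤ normalizer ((Q : Subgroup G) : Set G))
    have hd2 : 2 ≤ d := by
      by_contra hcon
      have hd0 : d ≠ 0 := fun h => Nat.card_pos.ne' (by rw [hd, h, mul_zero])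
      have hd1 : d = 1 := by omega
      rw [hd1, mul_one] at hd
      have heq := Subgroup.eq_of_le_of_card_ge
        (le_normalizer : (Q : Subgroup G) ≤ normalizer ((Q : Subgroup G) : Set G)) hd.le
      haveI := hQ
      exact H36.not_normalizer_le_centralizer c.hna Q c.dvd_s
        (heq ▸ Subgroup.le_centralizer (Q : Subgroup G))
    calc 2 * Nat.card ↥(center ↥(Q : Subgroup G))
        ≤ 2 * Nat.card ↥(Q : Subgroup G) := Nat.mul_le_mul le_rfl (card_le_card_group _)
      _ ≤ _ := by rw [hd, mul_comm]; exact Nat.mul_le_mul le_rfl hd2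
  · have := c.three_center_le Q hQ
    omega

end Ctx

end Cfsg.Agent.H67.TwoR
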