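import Cfsg.Agent.H67.TwoR.TI
import Cfsg.Agent.Fusion.Basic
import Cfsg.Agent.H65.SelfNorm.Centralizer

/-!
There is no simple group with element orders `1, 2, r, s, 2r` in which elements of equal order are
conjugate under automorphisms.
-/

set_option autoImplicit false
set_option linter.unusedSectionVars false
set_option linter.style.haveILetI false

namespace Cfsg.Agent.H67.TwoR.Ctx

open Subgroup
open scoped Pointwise

universe u

variable {G : Type u} [Group G] [Finite G] (c : Ctx G)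

/-- `x` commutes with two distinct commuting involutions. -/
def Big (x : G) : Prop :=
  ∃ a b : G, orderOf a = 2 ∧ orderOf b = 2 ∧ a ≠ b ∧ Commute a b ∧ Commute a x ∧ Commute b x

include c

theorem big_of_big {x y : G} (hx : orderOf x = c.r) (hy : orderOf y = c.r) (h : Big x) : Big y := by
  obtain ⟨φ, rfl⟩ := c.aut x y (hx.trans hy.symm)
  obtain ⟨a, b, ha, hb, hab, h1, h2, h3⟩ := h
  exact ⟨φ a, φ b, by rw [φ.orderOf_eq, ha], by rw [φ.orderOf_eq, hb],
    fun e => hab (φ.injective e), h1.map φ, h2.map φ, h3.map φ⟩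

theorem exists_sylow_mem {t : G} (ht : orderOf t = 2) : ∃ S : Sylow 2 G, t ∈ (S : Subgroup G) := by
  obtain ⟨S, hS⟩ := (IsPGroup.of_card (n := 1) (G := ↥(zpowers t))
    (by rw [Nat.card_zpowers, ht, pow_one])).exists_le_sylow
  exact ⟨S, hS (mem_zpowers t)⟩

/-- A subgroup of `N(S)` of order divisible by `r²`. -/
theorem exists_pair {P : Subgroup G} (hP : IsPGroup c.r ↥P) (h2 : c.r ^ 2 ≤ Nat.card ↥P) :
    ∃ E : Subgroup G, E ≤ P ∧ IsMulCommutative ↥E ∧ ¬ IsCyclic ↥E := by
  haveI := Fact.mk c.hr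
  have hexp : ∀ a ∈ P, a ^ c.r = 1 := by
    intro a ha
    obtain ⟨k, hk⟩ := hP ⟨a, ha⟩
    have hd := orderOf_dvd_of_pow_eq_one (congrArg Subtype.val hk : a ^ c.r ^ k = 1)
    rw [← orderOf_dvd_iff_pow_eq_one]
    obtain ⟨j, -, hj⟩ := (Nat.dvd_prime_pow c.hr).1 hd
    rcases c.spec a with e | e | e | e | e <;> rw [e] at hj ⊢
    · exact one_dvd _
    · rcases j with _ | j
      · simp at hj
      · exact absurd ((Nat.prime_dvd_prime_iff_eq c.hr Nat.prime_two).1 (hj ▸ dvd_pow_self _ j.succ_ne_zero)) c.hr2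
    · rcases j with _ | j
      · exact absurd hj (by simpa using c.hs.ne_one)
      · exact absurd ((Nat.prime_dvd_prime_iff_eq c.hr c.hs).1 (hj ▸ dvd_pow_self _ j.succ_ne_zero)) c.hrs
    · have h := (Nat.prime_two.dvd_of_dvd_pow (hj ▸ dvd_mul_right 2 c.r : 2 ∣ c.r ^ j))
      exact absurd ((Nat.prime_dvd_prime_iff_eq Nat.prime_two c.hr).1 h).symm c.hr2
  have hr := c.hr.two_le
  haveI : Nontrivial ↥P := by
    rw [← Finite.one_lt_card_iff_nontrivial]; nlinarith
  haveI := hP.center_nontrivial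
  obtain ⟨⟨z, hz⟩, hz1⟩ := exists_ne (1 : ↥(center ↥P))
  have hz1' : (z : G) ≠ 1 := fun e => hz1 (Subtype.ext (Subtype.ext e))
  have hzo : orderOf (z : G) = c.r := orderOf_eq_prime (hexp _ z.2) hz1'
  obtain ⟨y, hy, hyz⟩ : ∃ y ∈ P, y ∉ zpowers (z : G) := by
    by_contra hcon
    push Not at hcon
    have h3 := card_le_of_le (hcon : P ≤ zpowers (z : G))
    rw [Nat.card_zpowers, hzo] at h3
    nlinarith
  have hc : Commute (z : G) y := (congrArg Subtype.val (mem_center_iff.1 hz ⟨y, hy⟩) :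
    y * (z : G) = z * y).symm
  refine ⟨zpowers (z : G) ⊔ zpowers y, sup_le (zpowers_le.2 z.2) (zpowers_le.2 hy), ?_, ?_⟩
  · rw [zpowers_eq_closure, zpowers_eq_closure, ← Subgroup.closure_union]
    refine Subgroup.isMulCommutative_closure ?_
    rintro a (rfl | rfl) b (rfl | rfl)
    exacts [rfl, hc.eq, hc.eq.symm, rfl]
  · intro hcyc
    obtain ⟨⟨g, hg⟩, hgen⟩ := hcyc.exists_generator
    have hgP : g ∈ P := (sup_le (zpowers_le.2 z.2) (zpowers_le.2 hy) : _ ≤ P) hg
    have hle : zpowers (z : G) ⊔ zpowers y ≤ zpowers g := by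
      intro a ha
      obtain ⟨i, hi⟩ := mem_zpowers_iff.1 (hgen ⟨a, ha⟩)
      exact mem_zpowers_iff.2 ⟨i, congrArg Subtype.val hi⟩
    have hcard : Nat.card ↥(zpowers g) ≤ Nat.card ↥(zpowers (z : G)) := by
      rw [Nat.card_zpowers, Nat.card_zpowers, hzo]
      exact Nat.le_of_dvd c.hr.pos (orderOf_dvd_of_pow_eq_one (hexp g hgP))
    have he := Subgroup.eq_of_le_of_card_ge (le_sup_left.trans hle) hcard
    exact hyz (he ▸ hle (mem_sup_right (mem_zpowers y)))

section BigCase

variable {x a b : G} {S : Sylow 2 G}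

/-- The centraliser of `x` lies in `N(S)`, and its involutions in `S`. -/
theorem big_le (hx : orderOf x = c.r) (ha : orderOf a = 2) (hb : orderOf b = 2) (hab : a ≠ b)
    (hc : Commute a b) (hax : Commute a x) (hbx : Commute b x) (haS : a ∈ (S : Subgroup G)) :
    centralizer ({x} : Set G) ≤ normalizer ((S : Subgroup G) : Set G) ∧
      ∀ v : G, orderOf v = 2 → Commute v x → v ∈ (S : Subgroup G) := by
  have hC := fun {t : G} (ht : orderOf t = 2) (htS : t ∈ (S : Subgroup G)) =>
    c.centralizer_le_normalizer ht htS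
  have hbS : b ∈ (S : Subgroup G) :=
    c.mem_of_commute ha haS hc.symm (by rw [← sq, ← hb, pow_orderOf_eq_one])
  set C := centralizer ({x} : Set G) with hCdef
  set A := closure ({a, b} : Set G) with hA
  have hAS : A ≤ (S : Subgroup G) := by
    rw [hA, closure_le]; rintro v (rfl | rfl); exacts [haS, hbS]
  have hAC : A ≤ C := by
    rw [hA, closure_le]; rintro v (rfl | rfl); exacts [mem_cent.2 hax, mem_cent.2 hbx]
  haveI : IsMulCommutative ↥A := Subgroup.isMulCommutative_closure (by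
    rintro u (rfl | rfl) v (rfl | rfl)
    exacts [rfl, hc.eq, hc.eq.symm, rfl])
  have hA2 : IsPGroup 2 ↥A := S.2.to_le hAS
  have hnc : ¬ IsCyclic ↥A := by
    intro hcyc
    obtain ⟨⟨g, hg⟩, hgen⟩ := hcyc.exists_generator
    have hg2 : g * g = 1 := by
      obtain ⟨k, hk⟩ := hA2 ⟨g, hg⟩
      exact c.sq_eq (congrArg Subtype.val hk)
    have key : ∀ v ∈ A, v = 1 ∨ v = g := by
      intro v hv
      obtain ⟨i, hi⟩ := mem_zpowers_iff.1 (hgen ⟨v, hv⟩)
      have hi' : g ^ i = v := congrArg Subtype.val hi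
      rcases Int.even_or_odd i with ⟨k, rfl⟩ | ⟨k, rfl⟩
      · left
        rw [← hi', zpow_add, ← (Commute.refl g).mul_zpow, hg2, one_zpow]
      · right
        rw [← hi', zpow_add, zpow_mul, zpow_two, hg2, one_zpow, one_mul, zpow_one]
    have h1 : a ≠ 1 := fun e => by rw [e, orderOf_one] at ha; omega
    have h2 : b ≠ 1 := fun e => by rw [e, orderOf_one] at hb; omega
    exact hab (((key a (subset_closure (Set.mem_insert _ _))).resolve_left h1).trans
      ((key b (subset_closure (Set.mem_insert_of_mem _ rfl))).resolve_left h2).symm)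
  have hcore : core x ≤ normalizer ((S : Subgroup G) : Set G) := by
    refine Coprime.le_of_centralizer_noncyclic_le hnc
      (hAC.trans (centralizer_le_normalizer_core x)) ?_ fun v hv hv1 =>
        inf_le_right.trans (hC (c.orderOf_two_of_mem hA2 hv hv1) (hAS hv))
    obtain ⟨n, hn⟩ := IsPGroup.iff_card.1 hA2
    rw [hn]
    exact (Nat.coprime_two_left.2 (odd_card_core x)).pow_left n
  obtain ⟨T, hT⟩ := (hA2.comap_subtype (K := C)).exists_le_sylow
  set X := core x ⊔ (T : Subgroup ↥C).map C.subtype with hX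
  have hTS : (T : Subgroup ↥C).map C.subtype ≤ (S : Subgroup G) := by
    intro v hv
    have haT : a ∈ (T : Subgroup ↥C).map C.subtype :=
      ⟨⟨a, hAC (subset_closure (Set.mem_insert _ _))⟩, hT (mem_subgroupOf.2
        (subset_closure (Set.mem_insert _ _))), rfl⟩
    obtain ⟨k, hk⟩ := (T.2.map C.subtype) ⟨v, hv⟩
    exact c.mem_of_commute ha haS (c.commute_two (T.2.map C.subtype) hv haT)
      (c.sq_eq (congrArg Subtype.val hk))
  have hXle : X ≤ normalizer ((S : Subgroup G) : Set G) :=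
    sup_le hcore (hTS.trans le_normalizer)
  have hinv : ∀ v : G, orderOf v = 2 → Commute v x → v ∈ (S : Subgroup G) := by
    intro v hv hvx
    refine c.mem_of_two (hXle ?_) (by rw [← sq, ← hv, pow_orderOf_eq_one])
    have hp : IsPGroup 2 ↥(zpowers (⟨v, mem_cent.2 hvx⟩ : ↥C)) :=
      IsPGroup.of_card (n := 1) (by rw [Nat.card_zpowers, orderOf_mk, hv, pow_one])
    obtain ⟨R, hR⟩ := hp.exists_le_sylow
    obtain ⟨g, hg⟩ := MulAction.exists_smul_eq ↥C T R
    have h1 : (⟨v, mem_cent.2 hvx⟩ : ↥C) ∈ ((g • T : Sylow 2 ↥C) : Subgroup ↥C) :=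
      hg ▸ hR (mem_zpowers _)
    rw [Sylow.coe_subgroup_smul, mem_smul_pointwise_iff_exists] at h1
    obtain ⟨σ, hσ, e⟩ := h1
    have : v = (g : G) * σ * (g : G)⁻¹ := (congrArg Subtype.val e).symm
    rw [this]
    exact (mem_normalizer_iff.1 (c.le_normalizer_core_sup (Or.inr hx) T g.2) _).1
      (mem_sup_right ⟨σ, hσ, rfl⟩)
  refine ⟨fun g hg => c.mem_normalizer_of_conj ha haS (hinv _ ((orderOf_conj g a).trans ha) ?_), hinv⟩
  exact ((mem_cent.1 hg).mul_left hax).mul_left (mem_cent.1 hg).inv_left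

/-- With two commuting involutions in `C(x)`, no involution inverts `x`. -/
theorem big_not_inverted (hx : orderOf x = c.r) (h : Big x) {v : G} (hv : orderOf v = 2) :
    v * x * v⁻¹ ≠ x⁻¹ := by
  intro hvx
  obtain ⟨a, b, ha, hb, hab, hc, hax, hbx⟩ := h
  obtain ⟨S, haS⟩ := c.exists_sylow_mem ha
  obtain ⟨hle, hinv⟩ := c.big_le hx ha hb hab hc hax hbx haS
  have hva : Commute (v * a * v⁻¹) x := by
    have := hax.inv_right.map (MulAut.conj v).toMonoidHom
    simp only [MulEquiv.coe_toMonoidHom, MulAut.conj_apply] at this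
    rwa [show v * x⁻¹ * v⁻¹ = x by
      rw [show v * x⁻¹ * v⁻¹ = (v * x * v⁻¹)⁻¹ by group, hvx, inv_inv]] at this
  have hvN := c.mem_normalizer_of_conj ha haS (hinv _ ((orderOf_conj v a).trans ha) hva)
  have hvS := c.mem_of_two hvN (by rw [← sq, ← hv, pow_orderOf_eq_one] : v * v = 1)
  have hxN : x ∈ normalizer ((S : Subgroup G) : Set G) := hle (mem_cent.2 (Commute.refl x))
  have h2 : x * x ∈ (S : Subgroup G) := by
    have h3 := mul_mem ((mem_normalizer_iff.1 hxN v).1 hvS) (inv_mem hvS)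
    rwa [show x * v * x⁻¹ * v⁻¹ = x * (v * x⁻¹ * v⁻¹) by group,
      show v * x⁻¹ * v⁻¹ = (v * x * v⁻¹)⁻¹ by group, hvx, inv_inv] at h3
  have hne : x * x ≠ 1 := fun e => by
    have := orderOf_dvd_of_pow_eq_one ((sq x).trans e)
    rw [hx] at this
    exact c.hr2 ((Nat.prime_dvd_prime_iff_eq c.hr Nat.prime_two).1 this)
  have h4 := c.orderOf_two_of_mem S.2 h2 hne
  rw [← sq, orderOf_pow' x (by norm_num), hx, Nat.Coprime.gcd_eq_one
    ((Nat.coprime_primes c.hr Nat.prime_two).2 c.hr2), Nat.div_one] at h4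
  exact c.hr2 h4

theorem not_big (hx : orderOf x = c.r) : ¬ Big x := by
  intro hbig
  haveI := Fact.mk c.hr
  haveI := Fact.mk c.hs
  classical
  obtain ⟨a, b, ha, hb, hab, hc, hax, hbx⟩ := id hbig
  obtain ⟨S, haS⟩ := c.exists_sylow_mem ha
  have hbS : b ∈ (S : Subgroup G) :=
    c.mem_of_commute ha haS hc.symm (by rw [← sq, ← hb, pow_orderOf_eq_one])
  set M := normalizer ((S : Subgroup G) : Set G) with hM
  haveI := Fintype.ofFinite G
  haveI := Fintype.ofFinite (G ⧸ M)
  -- two involutions outside `N(S)` in one coset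
  obtain ⟨v, w, hv, hw, hvM, hvw, hcoset⟩ : ∃ v w : G, orderOf v = 2 ∧ orderOf w = 2 ∧ v ∉ M ∧
      v ≠ w ∧ v⁻¹ * w ∈ M := by
    let ι : {q : G ⧸ M // q ≠ QuotientGroup.mk 1} × Fin 2 → G := fun p =>
      (p.1 : G ⧸ M).out * (if p.2 = 0 then a else b) * ((p.1 : G ⧸ M).out)⁻¹
    have ho : ∀ p, orderOf (ι p) = 2 := fun p => (orderOf_conj _ _).trans (by split_ifs <;> assumption)
    have hmemS : ∀ i : Fin 2, (if i = 0 then a else b) ∈ (S : Subgroup G) := fun i => by
      split_ifs <;> assumption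
    have hout : ∀ p, ι p ∉ M := by
      intro p hp
      have hg := c.mem_normalizer_of_conj (t := if p.2 = 0 then a else b)
        (g := (p.1 : G ⧸ M).out) (by split_ifs <;> assumption) (hmemS p.2)
        (c.mem_of_two hp (by
          have h := pow_orderOf_eq_one (ι p); rw [ho p, sq] at h; exact h))
      refine p.1.2 ?_
      rw [← (p.1 : G ⧸ M).out_eq']
      exact (QuotientGroup.eq).2 (mul_mem (inv_mem hg) (one_mem M))
    have hinj : Function.Injective ι := by
      rintro ⟨p, i⟩ ⟨p', i'⟩ h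
      simp only [ι] at h
      have hpp : p = p' := by
        refine Subtype.ext ?_
        rw [← (p : G ⧸ M).out_eq', ← (p' : G ⧸ M).out_eq']
        refine (QuotientGroup.eq).2 (c.mem_normalizer_of_conj (t := if i' = 0 then a else b)
          (by split_ifs <;> assumption) (hmemS i') ?_)
        have e : ((p : G ⧸ M).out)⁻¹ * (p' : G ⧸ M).out * (if i' = 0 then a else b) *
            (((p : G ⧸ M).out)⁻¹ * (p' : G ⧸ M).out)⁻¹ = (if i = 0 then a else b) := by
          calc _ = ((p : G ⧸ M).out)⁻¹ * ((p' : G ⧸ M).out * (if i' = 0 then a else b) *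
                ((p' : G ⧸ M).out)⁻¹) * (p : G ⧸ M).out := by group
            _ = _ := by rw [← h]; group
        rw [e]
        exact hmemS i
      subst hpp
      have h' := mul_left_cancel (mul_right_cancel h)
      have : i = i' := by
        fin_cases i <;> fin_cases i' <;> first
          | rfl | exact absurd h' (by simpa using hab) | exact absurd h'.symm (by simpa using hab)
      rw [this]
    let κ : {q : G ⧸ M // q ≠ QuotientGroup.mk 1} × Fin 2 → {q : G ⧸ M // q ≠ QuotientGroup.mk 1} :=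
      fun p => ⟨QuotientGroup.mk (ι p), fun e => hout p (by
        have h := (QuotientGroup.eq).1 e
        rw [mul_one] at h
        exact (inv_mem_iff.1 h))⟩
    have hpos : Nonempty {q : G ⧸ M // q ≠ QuotientGroup.mk 1} := by
      by_contra hcon
      rw [not_nonempty_iff] at hcon
      haveI := c.simp
      have htop : M = ⊤ := by
        rw [eq_top_iff]
        intro g _
        by_contra hg
        refine hcon.false ⟨QuotientGroup.mk g, fun e => hg ?_⟩
        have h := (QuotientGroup.eq).1 e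
        rw [mul_one] at h
        exact inv_mem_iff.1 h
      rw [hM, normalizer_eq_top_iff] at htop
      rcases htop.eq_bot_or_eq_top with h | h
      · exact S.ne_bot_of_dvd_card c.two_dvd h
      · have := c.orderOf_two_of_mem S.2 (h ▸ mem_top x) (fun e => c.hr.ne_one (by rw [← hx, e, orderOf_one]))
        exact c.hr2 (hx.symm.trans this)
    obtain ⟨p, p', hpp, hk⟩ := Fintype.exists_ne_map_eq_of_card_lt κ (by
      rw [Fintype.card_prod, Fintype.card_fin]
      have := Fintype.card_pos (α := {q : G ⧸ M // q ≠ QuotientGroup.mk 1})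
      omega)
    exact ⟨ι p, ι p', ho p, ho p', hout p, fun e => hpp (hinj e),
      (QuotientGroup.eq).1 (congrArg Subtype.val hk)⟩
  have hv1 : v * v = 1 := by rw [← sq, ← hv, pow_orderOf_eq_one]
  have hw1 : w * w = 1 := by rw [← sq, ← hw, pow_orderOf_eq_one]
  have hvi : v⁻¹ = v := inv_eq_of_mul_eq_one_left hv1
  have hwi : w⁻¹ = w := inv_eq_of_mul_eq_one_left hw1
  set m := v⁻¹ * w with hm
  have hminv : v * m * v⁻¹ = m⁻¹ := by
    rw [hm, mul_inv_rev, inv_inv, hwi, mul_inv_cancel_left, hvi]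
  have hpow : ∀ n : ℕ, v * m ^ n * v⁻¹ = (m ^ n)⁻¹ := fun n => by
    rw [← conj_pow, hminv, inv_pow]
  have hsM : c.s ∣ Nat.card ↥M := by
    rcases c.spec m with e | e | e | e | e
    · exact absurd (inv_mul_eq_one.1 (orderOf_eq_one_iff.1 e)) hvw
    · exfalso
      have hmm : m⁻¹ = m := inv_eq_of_mul_eq_one_left (by rw [← sq, ← e, pow_orderOf_eq_one])
      have hcm : Commute v m := by
        rw [hmm] at hminv
        exact mul_inv_eq_iff_eq_mul.1 hminv
      have hmS : m ∈ (S : Subgroup G) := c.mem_of_two hcoset (by rw [← sq, ← e, pow_orderOf_eq_one])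
      exact hvM (le_normalizer (c.mem_of_commute e hmS hcm hv1))
    · exact absurd hminv (c.big_not_inverted e (c.big_of_big hx e hbig) hv)
    · exact e ▸ Subgroup.orderOf_dvd_natCard _ hcoset
    · exact absurd (hpow 2) (c.big_not_inverted (c.orderOf_sq e) (c.big_of_big hx (c.orderOf_sq e) hbig) hv)
  -- a Sylow `r`-subgroup inside some `N(S)`
  obtain ⟨P₁⟩ : Nonempty (Sylow c.r G) := inferInstance
  haveI : Nontrivial ↥(P₁ : Subgroup G) :=
    (nontrivial_iff_ne_bot _).2 (P₁.ne_bot_of_dvd_card c.r_dvd)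
  haveI := P₁.2.center_nontrivial
  obtain ⟨z, -, hzc, hzo⟩ := PGroups.exists_mem_center_orderOf_eq P₁.2
    (⊤ : Subgroup ↥(P₁ : Subgroup G)) top_ne_bot
  have hzo' : orderOf (z : G) = c.r := by rw [Subgroup.orderOf_coe, hzo]
  have hPz : (P₁ : Subgroup G) ≤ centralizer ({(z : G)} : Set G) := fun v hv =>
    mem_cent.2 (congrArg Subtype.val (mem_center_iff.1 hzc ⟨v, hv⟩))
  obtain ⟨a', b', ha', hb', hab', hc', hax', hbx'⟩ := c.big_of_big hx hzo' hbig
  obtain ⟨S', haS'⟩ := c.exists_sylow_mem ha'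
  have hP : (P₁ : Subgroup G) ≤ normalizer ((S' : Subgroup G) : Set G) :=
    hPz.trans (c.big_le hzo' ha' hb' hab' hc' hax' hbx' haS').1
  obtain ⟨Y, P, hY, hYs, -, hPY, hPp, hmax⟩ := c.exists_normalised S hsM
  obtain ⟨g, hg⟩ := MulAction.exists_smul_eq G S' S
  have hPS : ((g • P₁ : Sylow c.r G) : Subgroup G) ≤ M := by
    rw [Sylow.coe_subgroup_smul]
    intro v hv
    rw [mem_smul_pointwise_iff_exists] at hv
    obtain ⟨u, hu, rfl⟩ := hv
    rw [hM, ← hg, Sylow.coe_subgroup_smul, mem_normalizer_iff]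
    intro y
    have hu' := mem_normalizer_iff.1 (hP hu)
    show y ∈ MulAut.conj g • (S' : Subgroup G) ↔
      MulAut.conj g u * y * (MulAut.conj g u)⁻¹ ∈ MulAut.conj g • (S' : Subgroup G)
    rw [mem_pointwise_smul_iff_inv_smul_mem, mem_pointwise_smul_iff_inv_smul_mem, MulAut.smul_def,
      MulAut.smul_def, MulAut.conj_inv_apply, MulAut.conj_inv_apply, MulAut.conj_apply,
      hu' (g⁻¹ * y * g)]
    rw [show u * (g⁻¹ * y * g) * u⁻¹ = g⁻¹ * (g * u * g⁻¹ * y * (g * u * g⁻¹)⁻¹) * g by group]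
  have h2 : c.r ^ 2 ≤ Nat.card ↥P := by
    refine le_trans ?_ ((hmax _ (g • P₁).2 hPS))
    obtain ⟨n, hn⟩ := IsPGroup.iff_card.1 (g • P₁).2
    rw [hn]
    refine Nat.pow_le_pow_right c.hr.pos ?_
    by_contra hn2
    -- otherwise `⟨x⟩` is a Sylow subgroup centralising an involution
    obtain ⟨R, hR⟩ := (IsPGroup.of_card (n := 1) (G := ↥(zpowers x))
      (by rw [Nat.card_zpowers, hx, pow_one])).exists_le_sylow
    have hRc : Nat.card ↥(R : Subgroup G) = c.r ^ n := by
      rw [← hn]; exact Nat.card_congr (R.equiv (g • P₁)).toEquiv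
    have hRle : (R : Subgroup G) ≤ centralizer ({a} : Set G) := by
      have he := Subgroup.eq_of_le_of_card_ge hR (by
        rw [hRc, Nat.card_zpowers, hx]
        calc c.r ^ n ≤ c.r ^ 1 := Nat.pow_le_pow_right c.hr.pos (by omega)
          _ = c.r := pow_one _)
      rw [← he, zpowers_le]
      exact mem_cent.2 hax.symm
    obtain ⟨S₂, hS₂⟩ := c.exists_sylow_le c.two_dvd ha
    exact c.not_both (Or.inl ha) S₂ R hS₂ hRle
  obtain ⟨E, hEP, hEc, hEnc⟩ := c.exists_pair hPp h2
  haveI := hEc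
  obtain ⟨n, hn⟩ := IsPGroup.iff_card.1 (hPp.to_le hEP)
  obtain ⟨k, hk⟩ := IsPGroup.iff_card.1 hYs
  refine hY (le_bot_iff.1 (Coprime.le_of_centralizer_noncyclic_le hEnc (hEP.trans hPY) ?_
    fun e he he1 => ?_))
  · rw [hn, hk]
    exact ((Nat.coprime_primes c.hr c.hs).2 c.hrs).pow _ _
  · rintro y ⟨hyY, hye⟩
    rw [mem_bot]
    by_contra hy1
    obtain ⟨j, hj⟩ := hYs ⟨y, hyY⟩
    obtain ⟨i, -, hi⟩ := (Nat.dvd_prime_pow c.hs).1
      (orderOf_dvd_of_pow_eq_one (congrArg Subtype.val hj : y ^ c.s ^ j = 1))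
    have hyo : orderOf (y ^ (c.s ^ (i - 1))) = c.s := by
      have hi0 : i ≠ 0 := fun h => hy1 (orderOf_eq_one_iff.1 (by rw [hi, h, pow_zero]))
      rw [orderOf_pow_of_dvd (pow_ne_zero _ c.hs.ne_zero) (hi ▸ pow_dvd_pow _ (by omega)), hi,
        Nat.pow_div (by omega) c.hs.pos, show i - (i - 1) = 1 by omega, pow_one]
    refine c.not_commute_s' hyo he1 ?_ ((mem_cent.1 hye).symm.pow_right _)
    intro hd
    obtain ⟨j', hj'⟩ := hPp ⟨e, hEP he⟩
    have := c.hs.dvd_of_dvd_pow
      (hd.trans (orderOf_dvd_of_pow_eq_one (congrArg Subtype.val hj' : e ^ c.r ^ j' = 1)))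
    exact c.hrs ((Nat.prime_dvd_prime_iff_eq c.hs c.hr).1 this).symm

end BigCase

/-- An element of order `r` commutes with at most one of the involutions of each Sylow 2-subgroup. -/
theorem invol_unique {x : G} (hx : orderOf x = c.r) {S : Sylow 2 G} {a b : G} (ha : orderOf a = 2)
    (hb : orderOf b = 2) (haS : a ∈ (S : Subgroup G)) (hbS : b ∈ (S : Subgroup G))
    (hax : Commute a x) (hbx : Commute b x) : a = b := by
  by_contra hab
  exact c.not_big hx ⟨a, b, ha, hb, hab, c.commute_two S.2 haS hbS, hax, hbx⟩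

/-- `r`-subgroups of `N(S)` have order at most `r`. -/
theorem card_r_subgroup_le (S : Sylow 2 G) {R : Subgroup G} (hR : IsPGroup c.r ↥R)
    (hRM : R ≤ normalizer ((S : Subgroup G) : Set G)) : Nat.card ↥R ≤ c.r := by
  haveI := Fact.mk c.hr
  by_contra hlt
  obtain ⟨n, hn⟩ := IsPGroup.iff_card.1 hR
  have h2 : c.r ^ 2 ≤ Nat.card ↥R := by
    rw [hn] at hlt ⊢
    refine Nat.pow_le_pow_right c.hr.pos ?_
    by_contra hcon
    refine hlt ?_
    calc c.r ^ n ≤ c.r ^ 1 := Nat.pow_le_pow_right c.hr.pos (by omega)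
      _ = c.r := pow_one _
  obtain ⟨E, hER, hEc, hEnc⟩ := c.exists_pair hR h2
  haveI := hEc
  have hES : E ≤ normalizer ((S : Subgroup G) : Set G) := hER.trans hRM
  have hE : ∀ e ∈ E, e ≠ 1 → orderOf e = c.r := by
    intro e he he1
    obtain ⟨k, hk⟩ := hR ⟨e, hER he⟩
    have hd := orderOf_dvd_of_pow_eq_one (congrArg Subtype.val hk : e ^ c.r ^ k = 1)
    obtain ⟨i, -, hi⟩ := (Nat.dvd_prime_pow c.hr).1 hd
    have hi0 : i ≠ 0 := fun h => he1 (orderOf_eq_one_iff.1 (by rw [hi, h, pow_zero]))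
    have hdr : c.r ∣ orderOf e := hi ▸ dvd_pow_self _ hi0
    rcases c.spec e with h | h | h | h | h
    · exact absurd (orderOf_eq_one_iff.1 h) he1
    · exact absurd ((Nat.prime_dvd_prime_iff_eq c.hr Nat.prime_two).1 (h ▸ hdr)) c.hr2
    · exact h
    · exact absurd ((Nat.prime_dvd_prime_iff_eq c.hr c.hs).1 (h ▸ hdr)) c.hrs
    · have := Nat.prime_two.dvd_of_dvd_pow ((h ▸ dvd_mul_right 2 c.r).trans hd)
      exact absurd ((Nat.prime_dvd_prime_iff_eq Nat.prime_two c.hr).1 this).symm c.hr2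
  have hle : (S : Subgroup G) ≤ centralizer (E : Set G) := by
    refine Coprime.le_of_centralizer_noncyclic_le hEnc hES ?_ fun e he he1 => ?_
    · obtain ⟨i, hi⟩ := IsPGroup.iff_card.1 (hR.to_le hER)
      obtain ⟨j, hj⟩ := IsPGroup.iff_card.1 S.2
      rw [hi, hj]
      exact ((Nat.coprime_primes c.hr Nat.prime_two).2 c.hr2).pow _ _
    · rintro σ ⟨hσS, hσe⟩
      intro f hf
      by_cases hσ1 : σ = 1
      · rw [hσ1]; simp
      have hσ2 := c.orderOf_two_of_mem S.2 hσS hσ1
      have hfe : Commute f e := by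
        exact congrArg Subtype.val (hEc.is_comm.comm ⟨f, hf⟩ ⟨e, he⟩)
      have h := c.invol_unique (hE e he he1) ((orderOf_conj f σ).trans hσ2) hσ2
        ((mem_normalizer_iff.1 (hES hf) σ).1 hσS) hσS
        ((hfe.mul_left (mem_cent.1 hσe)).mul_left hfe.inv_left) (mem_cent.1 hσe)
      exact mul_inv_eq_iff_eq_mul.1 h
  have hES' : E ≤ (S : Subgroup G) := by
    rw [← c.centralizer_sylow S]
    exact fun e he b hb => ((hle hb) e he).symm
  obtain ⟨e, he, he1⟩ := E.bot_or_exists_ne_one.resolve_left fun h => hEnc (h ▸ inferInstance)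
  exact c.hr2 ((hE e he he1).symm.trans (c.orderOf_two_of_mem S.2 (hES' he) he1))

theorem s_dvd_normalizer (S : Sylow 2 G) :
    c.s ∣ Nat.card ↥(normalizer ((S : Subgroup G) : Set G)) := by
  by_contra hns
  haveI := c.simp
  haveI := Fact.mk c.hr
  set M := normalizer ((S : Subgroup G) : Set G) with hM
  haveI : Nontrivial ↥(S : Subgroup G) :=
    (nontrivial_iff_ne_bot _).2 (S.ne_bot_of_dvd_card c.two_dvd)
  obtain ⟨⟨t, htS⟩, ht1⟩ := exists_ne (1 : ↥(S : Subgroup G))
  have ht := c.orderOf_two_of_mem S.2 htS fun e => ht1 (Subtype.ext e)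
  obtain ⟨x, hx, htx⟩ := c.exists_commute_r ht
  have hSC := c.sylow_le_centralizer htS
  have hCM := c.centralizer_le_normalizer ht htS
  -- `|M| = |S| r`, so `M` centralises `t`
  have hcard : Nat.card ↥M ∣ Nat.card ↥(S : Subgroup G) * c.r := by
    obtain ⟨R⟩ : Nonempty (Sylow c.r ↥M) := inferInstance
    have hR : Nat.card ↥(R : Subgroup ↥M) ∣ c.r := by
      obtain ⟨n, hn⟩ := IsPGroup.iff_card.1 R.2
      have h := c.card_r_subgroup_le S (R.2.map M.subtype) (map_subtype_le _)
      rw [card_map_of_injective M.subtype_injective, hn] at h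
      rw [hn]
      rcases n with _ | _ | n
      · simp
      · simp
      · exfalso
        have h2 := c.hr.two_le
        have : c.r ^ 2 ≤ c.r ^ (n + 1 + 1) := Nat.pow_le_pow_right c.hr.pos (by omega)
        nlinarith
    refine (Nat.dvd_iff_prime_pow_dvd_dvd _ _).2 fun p k hp hk => ?_
    rcases Nat.eq_zero_or_pos k with rfl | hk0
    · simp
    have hpd : p ∣ Nat.card ↥M := (dvd_pow_self p hk0.ne').trans hk
    haveI := Fact.mk hp
    rcases c.prime_eq hp (hpd.trans (card_subgroup_dvd_card _)) with rfl | rfl | rfl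
    · exact dvd_mul_of_dvd_left (S.pow_dvd_card_of_pow_dvd_card
        (hk.trans (card_subgroup_dvd_card _))) _
    · exact dvd_mul_of_dvd_right ((R.pow_dvd_card_of_pow_dvd_card hk).trans hR) _
    · exact absurd hpd hns
  have hMC : M ≤ centralizer ({t} : Set G) := by
    set K := M ⊓ centralizer ({t} : Set G)
    have hd : Nat.card ↥(S : Subgroup G) * c.r ∣ Nat.card ↥K := by
      refine Nat.Coprime.mul_dvd_of_dvd_of_dvd ?_ (card_dvd_of_le (le_inf le_normalizer hSC)) ?_
      · obtain ⟨j, hj⟩ := IsPGroup.iff_card.1 S.2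
        rw [hj]
        exact ((Nat.coprime_primes Nat.prime_two c.hr).2 (Ne.symm c.hr2)).pow_left _
      · rw [← hx]
        exact Subgroup.orderOf_dvd_natCard _ (mem_inf.2 ⟨hCM (mem_cent.2 htx.symm), mem_cent.2 htx.symm⟩)
    exact (Subgroup.eq_of_le_of_card_ge (inf_le_left : K ≤ M)
      (Nat.le_of_dvd Nat.card_pos (hcard.trans hd))).ge.trans inf_le_right
  have hfocal := Fusion.commutator_inf_eq_of_controls S (K := M) le_normalizer
    (Fusion.controlsElementFusion_normalizer_of_commutative S (c.comm_sylow S))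
  have htG : t ∈ commutator G := by
    have h := (inferInstance : (commutator G).Normal).eq_bot_or_eq_top
    rcases h with h | h
    · exfalso
      refine c.hna ⟨⟨fun a b => ?_⟩⟩
      have hmem := Subgroup.commutator_mem_commutator (mem_top a) (mem_top b)
      rw [← commutator_def, h, mem_bot] at hmem
      exact commutatorElement_eq_one_iff_mul_comm.1 hmem
    · rw [h]; exact mem_top t
  have htM : t ∈ ⁅M, M⁆ := (hfocal.le ⟨htG, htS⟩).1
  rw [← map_subtype_commutator] at htM
  obtain ⟨t', ht', hte⟩ := htM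
  haveI := Fact.mk Nat.prime_two
  refine H65.SelfNorm.not_mem_commutator (S.subtype (le_normalizer : (S : Subgroup G) ≤ M))
    ⟨⟨fun a b => Subtype.ext (Subtype.ext (c.commute_two S.2 (mem_subgroupOf.1 a.2)
      (mem_subgroupOf.1 b.2)).eq)⟩⟩ (x := t') ?_ (fun h => Subtype.ext ?_) ht'
  · rw [← Subgroup.orderOf_coe]
    exact (congrArg orderOf hte).trans ht
  · show (h : G) * t' = t' * h
    rw [show ((t' : ↥M) : G) = t from hte]
    exact (mem_cent.1 (hMC h.2)).eq

/-- In the group, at most half the elements have even order. -/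
theorem two_even_le : 2 * (numOrd G 2 + numOrd G (2 * c.r)) ≤ Nat.card G := by
  classical
  haveI := Fintype.ofFinite G
  haveI := Fact.mk c.hr
  haveI := Fact.mk c.hs
  haveI := Fintype.ofFinite (Sylow 2 G)
  let Ev := {g : G // orderOf g = 2 ∨ orderOf g = 2 * c.r}
  -- each element of even order lies in the normaliser of a Sylow subgroup containing its involution
  have hex : ∀ g : Ev, ∃ S : Sylow 2 G, (g : G) ^ c.r ∈ (S : Subgroup G) := fun g =>
    c.exists_sylow_mem (c.evenEquiv g).1.2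
  choose fS hfS using hex
  have hmemM : ∀ g : Ev, (g : G) ∈ normalizer ((fS g : Subgroup G) : Set G) := fun g =>
    c.centralizer_le_normalizer (c.evenEquiv g).1.2 (hfS g)
      (mem_cent.2 ((Commute.refl _).pow_right _))
  have hS : ∀ S : Sylow 2 G,
      2 * Nat.card {g : Ev // fS g = S} ≤ Nat.card ↥(normalizer ((S : Subgroup G) : Set G)) := by
    intro S
    set M := normalizer ((S : Subgroup G) : Set G) with hM
    obtain ⟨⟨y, hy⟩, hyo⟩ := exists_prime_orderOf_dvd_card' c.s (c.s_dvd_normalizer S)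
    rw [orderOf_mk] at hyo
    have hkey : ∀ g : Ev, fS g = S → ((g : G) ∈ M ∧ (g : G) ^ c.r ∈ (S : Subgroup G)) := fun g hg => by
      subst hg; exact ⟨hmemM g, hfS g⟩
    let f : {g : Ev // fS g = S} ⊕ {g : Ev // fS g = S} → ↥M := Sum.elim
      (fun g => ⟨g.1, (hkey g.1 g.2).1⟩)
      (fun g => if orderOf (g.1 : G) = 2 then
          ⟨(g.1 : G) * y * (g.1 : G)⁻¹, mul_mem (mul_mem (hkey g.1 g.2).1 hy) (inv_mem (hkey g.1 g.2).1)⟩
        else ⟨(g.1 : G) ^ (c.r + 1), pow_mem (hkey g.1 g.2).1 _⟩)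
    have ho : ∀ g : {g : Ev // fS g = S},
        (orderOf (g.1 : G) = 2 → orderOf (f (Sum.inr g) : G) = c.s) ∧
        (orderOf (g.1 : G) ≠ 2 → orderOf (f (Sum.inr g) : G) = c.r ∧
          (f (Sum.inr g) : G) = (g.1 : G) ^ (c.r + 1)) := by
      intro g
      refine ⟨fun h => ?_, fun h => ?_⟩
      · simp only [f, Sum.elim_inr, if_pos h]
        exact (orderOf_conj _ y).trans hyo
      · simp only [f, Sum.elim_inr, if_neg h, and_true]
        have hg := g.1.2.resolve_left h
        obtain ⟨k, hk⟩ := (c.hr.odd_of_ne_two c.hr2).add_one.two_dvd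
        rw [hk, pow_mul, orderOf_pow' _ (by omega), c.orderOf_sq hg, Nat.Coprime.gcd_eq_one, Nat.div_one]
        refine c.hr.coprime_iff_not_dvd.2 fun hd => ?_
        have := Nat.le_of_dvd (by omega) hd
        omega
    have hr := c.hr.two_le
    have hr2 := c.hr2
    have hs := c.hs.two_le
    have hs2 := c.hs2
    have h2rs : 2 * c.r ≠ c.s := fun e => Nat.not_prime_mul (by norm_num) c.hr.ne_one (e ▸ c.hs)
    have hf : Function.Injective f := by
      have cross : ∀ g g', f (Sum.inl g) ≠ f (Sum.inr g') := by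
        intro g g' h
        have h1 : orderOf (g.1 : G) = orderOf (f (Sum.inr g') : G) := by rw [← h]; rfl
        by_cases h2 : orderOf (g'.1 : G) = 2
        · rw [(ho g').1 h2] at h1
          rcases g.1.2 with e | e <;> omega
        · rw [((ho g').2 h2).1] at h1
          rcases g.1.2 with e | e <;> omega
      rintro (g | g) (g' | g') h
      · exact congrArg Sum.inl (Subtype.ext (Subtype.ext (congrArg (fun z : ↥M => (z : G)) h)))
      · exact absurd h (cross g g')
      · exact absurd h.symm (cross g' g)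
      · have hv : (f (Sum.inr g) : G) = f (Sum.inr g') := congrArg Subtype.val h
        by_cases h2 : orderOf (g.1 : G) = 2
        · have h2' : orderOf (g'.1 : G) = 2 := by
            by_contra hne
            have := congrArg orderOf hv
            rw [(ho g).1 h2, ((ho g').2 hne).1] at this
            exact c.hrs this.symm
          simp only [f, Sum.elim_inr, if_pos h2, if_pos h2'] at hv
          have hgS : ∀ g : {g : Ev // fS g = S}, orderOf (g.1 : G) = 2 → (g.1 : G) ∈ (S : Subgroup G) :=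
            fun g hg => by
              have := (hkey g.1 g.2).2
              obtain ⟨k, hk⟩ := c.hr.odd_of_ne_two c.hr2
              have h1 := pow_orderOf_eq_one (g.1 : G)
              rw [hg] at h1
              have e : (g.1 : G) ^ c.r = g.1 :=
                (congrArg (fun n => (g.1 : G) ^ n) hk).trans (by rw [pow_succ, pow_mul, h1, one_pow, one_mul])
              exact e ▸ this
          set σ := (g.1 : G) with hσ
          set τ := (g'.1 : G) with hτ
          have hc : Commute (τ⁻¹ * σ) y := by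
            show τ⁻¹ * σ * y = y * (τ⁻¹ * σ)
            calc τ⁻¹ * σ * y = τ⁻¹ * (σ * y * σ⁻¹) * σ := by group
              _ = τ⁻¹ * (τ * y * τ⁻¹) * σ := by rw [hv]
              _ = y * (τ⁻¹ * σ) := by group
          refine congrArg Sum.inr (Subtype.ext (Subtype.ext ?_))
          by_contra hne
          have hne' : τ⁻¹ * σ ≠ 1 := fun e => hne (inv_mul_eq_one.1 e).symm
          exact c.not_commute_s hyo Nat.prime_two (Ne.symm c.hs2)
            (c.orderOf_two_of_mem S.2 (mul_mem (inv_mem (hgS g' h2')) (hgS g h2)) hne') hc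
        · have h2' : orderOf (g'.1 : G) ≠ 2 := by
            intro he
            have := congrArg orderOf hv
            rw [((ho g).2 h2).1, (ho g').1 he] at this
            exact c.hrs this
          rw [((ho g).2 h2).2, ((ho g').2 h2').2] at hv
          -- the involutions agree
          have hx : orderOf ((g.1 : G) ^ (c.r + 1)) = c.r :=
            ((ho g).2 h2).2 ▸ ((ho g).2 h2).1
          have ei : (g.1 : G) ^ c.r = (g'.1 : G) ^ c.r :=
            c.invol_unique hx (c.evenEquiv g.1).1.2 (c.evenEquiv g'.1).1.2 (hkey g.1 g.2).2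
              (hkey g'.1 g'.2).2 ((Commute.refl _).pow_pow _ _)
              (hv ▸ (Commute.refl _).pow_pow _ _)
          refine congrArg Sum.inr (Subtype.ext (Subtype.ext ?_))
          have key : ∀ g : Ev, (g : G) = (g : G) ^ c.r * (g : G) ^ (c.r + 1) := fun g =>
            (congrArg Subtype.val (c.evenEquiv.left_inv g)).symm
          rw [key g.1, key g'.1, ei, hv]
    calc 2 * Nat.card {g : Ev // fS g = S}
        = Nat.card ({g : Ev // fS g = S} ⊕ {g : Ev // fS g = S}) := by rw [Nat.card_sum, two_mul]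
      _ ≤ _ := Nat.card_le_card_of_injective f hf
  rw [c.card_even]
  obtain ⟨S₀⟩ : Nonempty (Sylow 2 G) := inferInstance
  calc 2 * Nat.card Ev = 2 * ∑ S : Sylow 2 G, Nat.card {g : Ev // fS g = S} := by
        rw [← Nat.card_sigma, Nat.card_congr (Equiv.sigmaFiberEquiv fS)]
    _ = ∑ S : Sylow 2 G, 2 * Nat.card {g : Ev // fS g = S} := Finset.mul_sum _ _ _
    _ ≤ ∑ S : Sylow 2 G, Nat.card ↥(normalizer ((S : Subgroup G) : Set G)) :=
        Finset.sum_le_sum fun S _ => hS S
    _ = ∑ _S : Sylow 2 G, Nat.card ↥(normalizer ((S₀ : Subgroup G) : Set G)) := by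
        refine Finset.sum_congr rfl fun S _ => ?_
        have h1 := H36.card_sylow_mul_normalizer S
        have h2 := H36.card_sylow_mul_normalizer S₀
        exact Nat.eq_of_mul_eq_mul_left Nat.card_pos (h1.trans h2.symm)
    _ = Nat.card G := by
        rw [Finset.sum_const, Finset.card_univ, smul_eq_mul, ← Nat.card_eq_fintype_card,
          H36.card_sylow_mul_normalizer]

/-- At most a third of the elements have order `s`. -/
theorem three_s_le : 3 * numOrd G c.s + 6 ≤ Nat.card G := by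
  haveI := Fact.mk c.hr
  haveI := Fact.mk c.hs
  obtain ⟨Q₀⟩ : Nonempty (Sylow c.s G) := inferInstance
  by_cases hQ : IsMulCommutative ↥(Q₀ : Subgroup G)
  swap
  · exact c.s_fraction Q₀ (c.three_center_le Q₀ hQ)
  obtain ⟨S⟩ : Nonempty (Sylow 2 G) := inferInstance
  obtain ⟨Y, P, hY, hYs, hPM, hPY, hPp, hmax⟩ := c.exists_normalised S (c.s_dvd_normalizer S)
  obtain ⟨Q, hYQ⟩ := hYs.exists_le_sylow
  have hQc : ∀ a ∈ (Q : Subgroup G), ∀ b ∈ (Q : Subgroup G), Commute a b := fun a ha b hb => by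
    have h := congrArg (fun z => ((Q₀.equiv Q z : ↥(Q : Subgroup G)) : G))
      (hQ.is_comm.comm ((Q₀.equiv Q).symm ⟨a, ha⟩) ((Q₀.equiv Q).symm ⟨b, hb⟩))
    simp only [map_mul, MulEquiv.apply_symm_apply, Subgroup.coe_mul] at h
    exact h
  obtain ⟨y, hyY, hy1⟩ := Y.bot_or_exists_ne_one.resolve_left hY
  -- `C(Y) = Q`
  have hCY : centralizer (Y : Set G) = (Q : Subgroup G) := by
    refine Q.3 ?_ fun a ha b hb => (hQc b (hYQ hb) a ha).eq
    rw [IsPGroup.iff_card]
    refine ⟨_, Nat.eq_prime_pow_of_unique_prime_dvd Nat.card_pos.ne' fun {d} hd hdv => ?_⟩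
    haveI := Fact.mk hd
    obtain ⟨⟨g, hg⟩, hgo⟩ := exists_prime_orderOf_dvd_card' d hdv
    rw [orderOf_mk] at hgo
    by_contra hds
    obtain ⟨j, hj⟩ := hYs ⟨y, hyY⟩
    obtain ⟨i, -, hi⟩ := (Nat.dvd_prime_pow c.hs).1
      (orderOf_dvd_of_pow_eq_one (congrArg Subtype.val hj : y ^ c.s ^ j = 1))
    have hi0 : i ≠ 0 := fun h => hy1 (orderOf_eq_one_iff.1 (by rw [hi, h, pow_zero]))
    have hyo : orderOf (y ^ (c.s ^ (i - 1))) = c.s := by
      rw [orderOf_pow_of_dvd (pow_ne_zero _ c.hs.ne_zero) (hi ▸ pow_dvd_pow _ (by omega)), hi,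
        Nat.pow_div (by omega) c.hs.pos, show i - (i - 1) = 1 by omega, pow_one]
    exact c.not_commute_s hyo hd hds hgo ((show Commute g y from (hg y hyY).symm).pow_right _)
  -- an element of order `r` normalising `Q`
  have hPr : c.r ∣ Nat.card ↥P := by
    obtain ⟨n, hn⟩ := IsPGroup.iff_card.1 hPp
    rcases n with _ | n
    · exfalso
      haveI : Nontrivial ↥(S : Subgroup G) :=
        (nontrivial_iff_ne_bot _).2 (S.ne_bot_of_dvd_card c.two_dvd)
      obtain ⟨⟨t, htS⟩, ht1⟩ := exists_ne (1 : ↥(S : Subgroup G))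
      have ht := c.orderOf_two_of_mem S.2 htS fun e => ht1 (Subtype.ext e)
      obtain ⟨x, hx, htx⟩ := c.exists_commute_r ht
      have := hmax (zpowers x) (IsPGroup.of_card (n := 1) (by rw [Nat.card_zpowers, hx, pow_one]))
        (zpowers_le.2 (c.centralizer_le_normalizer ht htS (mem_cent.2 htx.symm)))
      rw [Nat.card_zpowers, hx, hn, pow_zero] at this
      have := c.hr.two_le
      omega
    · rw [hn]; exact dvd_pow_self _ n.succ_ne_zero
  have hPQ : P ≤ normalizer ((Q : Subgroup G) : Set G) := by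
    refine hPY.trans fun g hg => ?_
    rw [← hCY, mem_normalizer_iff]
    have key : ∀ g ∈ normalizer (Y : Set G), ∀ a ∈ centralizer (Y : Set G),
        g * a * g⁻¹ ∈ centralizer (Y : Set G) := by
      intro g hg a ha b hb
      have hb' : g⁻¹ * b * g ∈ Y := by
        have := (mem_normalizer_iff.1 (inv_mem hg) b).1 hb
        rwa [inv_inv] at this
      have h := ha _ hb'
      calc b * (g * a * g⁻¹) = g * ((g⁻¹ * b * g) * a) * g⁻¹ := by group
        _ = g * (a * (g⁻¹ * b * g)) * g⁻¹ := by rw [h]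
        _ = g * a * g⁻¹ * b := by group
    intro a
    refine ⟨key g hg a, fun h => ?_⟩
    have := key g⁻¹ (inv_mem hg) _ h
    rwa [show g⁻¹ * (g * a * g⁻¹) * g⁻¹⁻¹ = a by group] at this
  refine c.s_fraction Q ?_
  have hd : c.r * Nat.card ↥(Q : Subgroup G) ∣
      Nat.card ↥(normalizer ((Q : Subgroup G) : Set G)) := by
    refine Nat.Coprime.mul_dvd_of_dvd_of_dvd ?_ (hPr.trans (card_dvd_of_le hPQ))
      (card_dvd_of_le le_normalizer)
    obtain ⟨n, hn⟩ := IsPGroup.iff_card.1 Q.2
    rw [hn]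
    exact ((Nat.coprime_primes c.hr c.hs).2 c.hrs).pow_right _
  refine le_trans ?_ (Nat.le_of_dvd Nat.card_pos hd)
  refine Nat.mul_le_mul ?_ (card_le_card_group _)
  have := c.hr.two_le; have := c.hr2; omega

/-- No group satisfies the hypotheses. -/
theorem false : False := by
  haveI := Fact.mk c.hr
  have h1 := c.two_even_le
  have h2 := c.r_mul_le
  have h3 := c.three_s_le
  have h4 := c.card_eq
  have h5 : 3 ≤ c.r := by have := c.hr.two_le; have := c.hr2; omega
  have := Nat.mul_le_mul_right (numOrd G c.r) h5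
  omega

end Cfsg.Agent.H67.TwoR.Ctx

namespace Cfsg.Agent.H67.TwoR

/-- There is no simple group with element orders among `1, 2, r, s, 2r` (`r ≠ s` odd primes, `2r`
occurring, `s` dividing the order) in which elements of equal order are automorphic. -/
theorem no_two_r {G : Type*} [Group G] [Finite G] [hG : IsSimpleGroup G] (hna : ¬ IsMulCommutative G)
    {r s : ℕ} (hr : r.Prime) (hs : s.Prime) (hr2 : r ≠ 2) (hs2 : s ≠ 2) (hrs : r ≠ s)
    (spec : ∀ g : G, orderOf g = 1 ∨ orderOf g = 2 ∨ orderOf g = r ∨ orderOf g = s ∨ orderOf g = 2 * r)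
    (h2r : ∃ g : G, orderOf g = 2 * r) (hsd : s ∣ Nat.card G)
    (aut : ∀ a b : G, orderOf a = orderOf b → ∃ φ : MulAut G, φ a = b) : False :=
  Ctx.false ⟨r, s, hr, hs, hr2, hs2, hrs, spec, hG, hna, h2r, hsd, aut⟩

end Cfsg.Agent.H67.TwoR
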