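import Cfsg.Agent.H67.TwoR.CoreNontrivial
import Cfsg.Agent.Hall.MinimalNormal
import Cfsg.Agent.H70.FrobQuot

/-!
With trivial odd cores the Sylow 2-subgroups are TI; the structure of their normalisers.
-/

set_option autoImplicit false
set_option linter.unusedSectionVars false
set_option linter.style.haveILetI false

namespace Cfsg.Agent.H67.TwoR.Ctx

open Subgroup

universe u

variable {G : Type u} [Group G] [Finite G] (c : Ctx G)

include c

/-- An involution centraliser normalises the Sylow 2-subgroup. -/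
theorem centralizer_le_normalizer {S : Sylow 2 G} {t : G} (ht : orderOf t = 2)
    (htS : t ∈ (S : Subgroup G)) :
    centralizer ({t} : Set G) ≤ normalizer ((S : Subgroup G) : Set G) := by
  have h := c.le_normalizer_core_sup_sylow ht htS
  rwa [c.core_eq_bot ht, bot_sup_eq] at h

theorem mem_of_commute {S : Sylow 2 G} {t a : G} (ht : orderOf t = 2) (htS : t ∈ (S : Subgroup G))
    (h : Commute a t) (ha : a * a = 1) : a ∈ (S : Subgroup G) :=
  c.mem_of_two (c.centralizer_le_normalizer ht htS (mem_cent.2 h)) ha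

/-- Two Sylow 2-subgroups sharing an involution are equal. -/
theorem eq_of_mem {S T : Sylow 2 G} {t : G} (ht : orderOf t = 2) (hS : t ∈ (S : Subgroup G))
    (hT : t ∈ (T : Subgroup G)) : T = S := by
  refine Sylow.ext (T.3 S.2 fun a ha => ?_).symm
  obtain ⟨k, hk⟩ := T.2 ⟨a, ha⟩
  exact c.mem_of_commute ht hS (c.commute_two T.2 ha hT) (c.sq_eq (congrArg Subtype.val hk))

/-- An element carrying an involution of `S` into `S` normalises `S`. -/
theorem mem_normalizer_of_conj {S : Sylow 2 G} {t g : G} (ht : orderOf t = 2)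
    (hS : t ∈ (S : Subgroup G)) (h : g * t * g⁻¹ ∈ (S : Subgroup G)) :
    g ∈ normalizer ((S : Subgroup G) : Set G) := by
  have hmem : g * t * g⁻¹ ∈ ((g • S : Sylow 2 G) : Subgroup G) := by
    rw [Sylow.coe_subgroup_smul, mem_smul_pointwise_iff_exists]
    exact ⟨t, hS, rfl⟩
  have e : g • S = S := c.eq_of_mem ((orderOf_conj g t).trans ht) h hmem
  exact Sylow.smul_eq_iff_mem_normalizer.1 e

theorem not_commute_s' {y g : G} (hy : orderOf y = c.s) (hg : g ≠ 1) (hgs : ¬ c.s ∣ orderOf g) :
    ¬ Commute g y := by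
  intro h
  obtain ⟨p, hp, hd⟩ := Nat.exists_prime_and_dvd (fun e => hg (orderOf_eq_one_iff.1 e))
  have ho : orderOf (g ^ (orderOf g / p)) = p := by
    rw [orderOf_pow_of_dvd (Nat.div_pos (Nat.le_of_dvd (orderOf_pos g) hd) hp.pos).ne'
      (Nat.div_dvd_of_dvd hd), Nat.div_div_self hd (orderOf_pos g).ne']
  exact c.not_commute_s hy hp (fun e => hgs (e ▸ hd)) ho (h.pow_left _)

/-- The normaliser of a Sylow 2-subgroup is solvable. -/
theorem solvable_normalizer (S : Sylow 2 G) :
    Group.IsSolvable ↥(normalizer ((S : Subgroup G) : Set G)) := by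
  haveI := Fact.mk Nat.prime_two
  set S0 := (S : Subgroup G).subgroupOf (normalizer ((S : Subgroup G) : Set G))
  haveI : S0.Normal := normal_in_normalizer
  haveI : Group.IsNilpotent ↥S0 :=
    IsPGroup.isNilpotent (S.2.comap_subtype (K := normalizer ((S : Subgroup G) : Set G)))
  haveI : Group.IsSolvable ↥S0 := inferInstance
  haveI : Group.IsSolvable (↥(normalizer ((S : Subgroup G) : Set G)) ⧸ S0) := by
    refine isSolvable_two_primes c.r c.s c.hr c.hs fun d hd hdv => ?_
    have hdG := hdv.trans ((card_quotient_dvd_card S0).trans (card_subgroup_dvd_card _))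
    rcases c.prime_eq hd hdG with h | h | h
    · exfalso
      rw [← index_eq_card] at hdv
      have hsyl := (S.subtype (le_normalizer :
        (S : Subgroup G) ≤ normalizer ((S : Subgroup G) : Set G))).not_dvd_index
      exact hsyl (h ▸ hdv)
    · exact Or.inl h
    · exact Or.inr h
  exact (Group.isSolvable_iff_subgroup_quotient S0).2 ⟨inferInstance, inferInstance⟩

/-- If `s` divides `|N(S)|` there is a nontrivial `s`-subgroup of `N(S)` normalised by a Sylow
`r`-subgroup of `N(S)`. -/
theorem exists_normalised [Fact c.r.Prime] [Fact c.s.Prime] (S : Sylow 2 G)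
    (hs : c.s ∣ Nat.card ↥(normalizer ((S : Subgroup G) : Set G))) :
    ∃ Y P : Subgroup G, Y ≠ ⊥ ∧ IsPGroup c.s ↥Y ∧
      P ≤ normalizer ((S : Subgroup G) : Set G) ∧ P ≤ normalizer (Y : Set G) ∧ IsPGroup c.r ↥P ∧
      ∀ R : Subgroup G, IsPGroup c.r ↥R → R ≤ normalizer ((S : Subgroup G) : Set G) →
        Nat.card ↥R ≤ Nat.card ↥P := by
  classical
  haveI := Fact.mk Nat.prime_two
  set M := normalizer ((S : Subgroup G) : Set G)
  set S0 := (S : Subgroup G).subgroupOf M
  haveI : S0.Normal := normal_in_normalizer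
  haveI := c.solvable_normalizer S
  have hS0 : IsPGroup 2 ↥S0 := S.2.comap_subtype
  have h2S0 : ∀ p : ℕ, p.Prime → p ≠ 2 → ¬ p ∣ Nat.card ↥S0 := by
    intro p hp hp2 hd
    obtain ⟨n, hn⟩ := IsPGroup.iff_card.1 hS0
    exact hp2 ((Nat.prime_dvd_prime_iff_eq hp Nat.prime_two).1 (hp.dvd_of_dvd_pow (hn ▸ hd)))
  have hodd : ¬ 2 ∣ S0.index := (S.subtype (le_normalizer :
    (S : Subgroup G) ≤ M)).not_dvd_index
  have hQ : (⊤ : Subgroup (↥M ⧸ S0)) ≠ ⊥ := fun e => by
    have h1 : Nat.card (↥M ⧸ S0) = 1 := by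
      rw [← card_top (G := ↥M ⧸ S0), e, card_bot]
    have h2 := card_eq_card_quotient_mul_card_subgroup S0
    rw [h1, one_mul] at h2
    exact h2S0 c.s c.hs c.hs2 (h2 ▸ hs)
  obtain ⟨N, hNn, hN, -, hmin⟩ := Hall.exists_minimal_normal_le (⊤ : Subgroup (↥M ⧸ S0)) hQ
  haveI := hNn
  obtain ⟨-, p, hp, hNp, -⟩ := Hall.minimal_normal_elementary hN hmin inferInstance
  haveI := Fact.mk hp
  obtain ⟨nN, hnN⟩ := IsPGroup.iff_card.1 hNp
  have hn0 : nN ≠ 0 := fun h => hN (card_eq_one.1 (by rw [hnN, h, pow_zero]))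
  have hp2 : p ≠ 2 := by
    rintro rfl
    exact hodd (by
      rw [index_eq_card]
      exact ((dvd_pow_self 2 hn0).trans hnN.symm.dvd).trans (card_subgroup_dvd_card N))
  have hpG : p ∣ Nat.card G := by
    have := ((dvd_pow_self p hn0).trans hnN.symm.dvd).trans (card_subgroup_dvd_card N)
    exact (this.trans (card_quotient_dvd_card S0)).trans (card_subgroup_dvd_card _)
  set X := N.comap (QuotientGroup.mk' S0)
  have hS0X : S0 ≤ X := fun a ha => by
    show QuotientGroup.mk' S0 a ∈ N
    rw [show QuotientGroup.mk' S0 a = 1 from (QuotientGroup.eq_one_iff a).2 ha]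
    exact one_mem N
  haveI : X.Normal := hNn.comap _
  obtain ⟨P₀⟩ : Nonempty (Sylow p ↥X) := inferInstance
  set P := (P₀ : Subgroup ↥X).map X.subtype
  have hfr : normalizer (P : Set ↥M) ⊔ X = ⊤ := P₀.normalizer_sup_eq_top
  have hXle : X ≤ normalizer (P : Set ↥M) ⊔ S0 := by
    intro a ha
    -- the index of `P ⊔ S0` in `X` is a power of `p` and prime to `p`
    have hcard : Nat.card ↥X = p ^ nN * Nat.card ↥S0 := by
      have h1 := card_eq_card_quotient_mul_card_subgroup (S0.subgroupOf X)
      rw [Nat.card_congr (subgroupOfEquivOfLe hS0X).toEquiv] at h1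
      rw [h1]
      congr 1
      rw [← hnN, ← index_eq_card]
      have h2 : (S0.subgroupOf X).index = S0.relIndex X := rfl
      have h3 := relIndex_comap (H := (⊥ : Subgroup (↥M ⧸ S0))) (QuotientGroup.mk' S0) X
      rw [MonoidHom.comap_bot, QuotientGroup.ker_mk',
        map_comap_eq_self_of_surjective (QuotientGroup.mk'_surjective S0) N, relIndex_bot_left] at h3
      rw [h2]
      exact h3
    have hle : (P ⊔ S0 : Subgroup ↥M) ≤ X := sup_le (map_subtype_le _) hS0X
    have hPc : Nat.card ↥P = p ^ nN := by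
      rw [card_map_of_injective X.subtype_injective, P₀.card_eq_multiplicity, hcard,
        Nat.factorization_mul (pow_ne_zero _ hp.ne_zero) Nat.card_pos.ne', Finsupp.add_apply,
        Nat.Prime.factorization_pow hp, Finsupp.single_eq_same,
        Nat.factorization_eq_zero_of_not_dvd (h2S0 p hp hp2), add_zero]
    have hd1 : Nat.card ↥P ∣ Nat.card ↥(P ⊔ S0 : Subgroup ↥M) := card_dvd_of_le le_sup_left
    have hd2 : Nat.card ↥S0 ∣ Nat.card ↥(P ⊔ S0 : Subgroup ↥M) := card_dvd_of_le le_sup_right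
    have hd : Nat.card ↥X ∣ Nat.card ↥(P ⊔ S0 : Subgroup ↥M) := by
      rw [hcard]
      refine Nat.Coprime.mul_dvd_of_dvd_of_dvd ?_ (hPc ▸ hd1) hd2
      exact (hp.coprime_iff_not_dvd.2 (h2S0 p hp hp2)).pow_left _
    have := Subgroup.eq_of_le_of_card_ge hle (Nat.le_of_dvd Nat.card_pos hd)
    exact (sup_le_sup_right le_normalizer S0 : P ⊔ S0 ≤ _) (this ▸ ha)
  have htop : normalizer (P : Set ↥M) ⊔ S0 = ⊤ :=
    top_le_iff.1 (hfr ▸ sup_le le_sup_left hXle)
  have hdvd : Nat.card ↥M ∣ Nat.card ↥(normalizer (P : Set ↥M)) * Nat.card ↥S0 := by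
    have h1 := card_mul_index S0
    have h2 : S0.index ∣ Nat.card ↥(normalizer (P : Set ↥M)) := by
      have h3 : S0.relIndex (normalizer (P : Set ↥M) ⊔ S0) = S0.relIndex (normalizer (P : Set ↥M)) :=
        relIndex_sup_right _ _
      rw [htop, relIndex_top_right] at h3
      rw [h3]
      exact relIndex_dvd_card _ _
    rw [← h1, mul_comm]
    exact Nat.mul_dvd_mul h2 dvd_rfl
  set Nm := (normalizer (P : Set ↥M)).map M.subtype
  have hNm : Nat.card ↥Nm = Nat.card ↥(normalizer (P : Set ↥M)) :=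
    card_map_of_injective M.subtype_injective
  have hNmY : Nm ≤ normalizer ((P.map M.subtype : Subgroup G) : Set G) := le_normalizer_map _
  have hYne : P.map M.subtype ≠ ⊥ := by
    rw [Ne, map_eq_bot_iff_of_injective _ M.subtype_injective,
      map_eq_bot_iff_of_injective _ X.subtype_injective]
    refine P₀.ne_bot_of_dvd_card ?_
    have h2 : Nat.card ↥N ∣ Nat.card ↥X := card_dvd_of_surjective
      ((QuotientGroup.mk' S0).subgroupComap N)
      (MonoidHom.subgroupComap_surjective_of_surjective _ _ (QuotientGroup.mk'_surjective S0))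
    exact ((dvd_pow_self p hn0).trans hnN.symm.dvd).trans h2
  have hYp : IsPGroup p ↥(P.map M.subtype) := (P₀.2.map X.subtype).map M.subtype
  rcases c.prime_eq hp hpG with h | h | h
  · exact absurd h hp2
  · exfalso
    subst h
    have hsN : c.s ∣ Nat.card ↥Nm := by
      rcases (c.hs.dvd_mul).1 (hs.trans hdvd) with h | h
      · rwa [hNm]
      · exact absurd h (h2S0 c.s c.hs c.hs2)
    obtain ⟨⟨y, hyN⟩, hyo⟩ := exists_prime_orderOf_dvd_card' c.s hsN
    rw [orderOf_mk] at hyo
    have hyM : y ∈ M := map_subtype_le _ hyN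
    have hcent : (S : Subgroup G) ≤ centralizer ((P.map M.subtype : Subgroup G) : Set G) := by
      refine H70.centralizes_pGroup (p := 2) ((Nat.coprime_primes c.hr Nat.prime_two).2 c.hr2)
        _ hYp y c.s c.hs.pos (fun a ha => (mem_normalizer_iff.1 (hNmY hyN) a).1 ha) ?_
        (S : Subgroup G) S.2 (map_subtype_le _) hyM ?_
      · intro i hi his a ha hfix
        by_contra ha1
        have hyi : orderOf (y ^ i) = c.s := by
          rw [orderOf_pow' y (by omega), hyo, Nat.Coprime.gcd_eq_one, Nat.div_one]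
          exact c.hs.coprime_iff_not_dvd.2 fun hd => by
            have := Nat.le_of_dvd hi hd; omega
        refine c.not_commute_s' hyi ha1 ?_ (mul_inv_eq_iff_eq_mul.1 hfix).symm
        intro hd
        obtain ⟨k, hk⟩ := hYp ⟨a, ha⟩
        have := c.hs.dvd_of_dvd_pow
          (hd.trans (orderOf_dvd_of_pow_eq_one (congrArg Subtype.val hk)))
        exact c.hrs ((Nat.prime_dvd_prime_iff_eq c.hs c.hr).1 this).symm
      · intro w hw
        have key : ∀ n : ℕ, (w * y) ^ n * (y ^ n)⁻¹ ∈ (S : Subgroup G) := by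
          intro n
          induction n with
          | zero => simp
          | succ n ih =>
            have e : (w * y) ^ (n + 1) * (y ^ (n + 1))⁻¹ =
                ((w * y) ^ n * (y ^ n)⁻¹) * (y ^ n * w * (y ^ n)⁻¹) := by
              rw [pow_succ, pow_succ]; group
            rw [e]
            exact mul_mem ih ((mem_normalizer_iff.1 (pow_mem hyM n) w).1 hw)
        have h1 := key c.s
        rw [show y ^ c.s = 1 by rw [← hyo, pow_orderOf_eq_one], inv_one, mul_one] at h1
        rw [show y ^ c.s = 1 by rw [← hyo, pow_orderOf_eq_one]]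
        by_contra hne
        have h2 := c.orderOf_two_of_mem S.2 h1 hne
        have hd : orderOf (w * y) ∣ 2 * c.s := orderOf_dvd_of_pow_eq_one (by
          rw [mul_comm, pow_mul, ← h2, pow_orderOf_eq_one])
        have hns : ¬ orderOf (w * y) ∣ c.s := fun h => hne (orderOf_dvd_iff_pow_eq_one.1 h)
        rcases c.spec (w * y) with e | e | e | e | e
        · exact hns (e ▸ one_dvd _)
        · have hwy : w * y ∈ (S : Subgroup G) := c.mem_of_two (mul_mem (le_normalizer hw) hyM)
            (by rw [← sq, ← e, pow_orderOf_eq_one])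
          have hyS : y ∈ (S : Subgroup G) := by
            have := mul_mem (inv_mem hw) hwy
            rwa [inv_mul_cancel_left] at this
          exact c.hs2 (hyo.symm.trans (c.orderOf_two_of_mem S.2 hyS (by
            intro e1; rw [e1, orderOf_one] at hyo; exact c.hs.ne_one hyo.symm)))
        · rcases (c.hr.dvd_mul).1 (e ▸ hd) with h | h
          · exact c.hr2 ((Nat.prime_dvd_prime_iff_eq c.hr Nat.prime_two).1 h)
          · exact c.hrs ((Nat.prime_dvd_prime_iff_eq c.hr c.hs).1 h)
        · exact hns (e ▸ dvd_rfl)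
        · rcases (c.hr.dvd_mul).1 ((dvd_mul_left c.r 2).trans (e ▸ hd)) with h | h
          · exact c.hr2 ((Nat.prime_dvd_prime_iff_eq c.hr Nat.prime_two).1 h)
          · exact c.hrs ((Nat.prime_dvd_prime_iff_eq c.hr c.hs).1 h)
    have hle : P.map M.subtype ≤ (S : Subgroup G) := by
      rw [← c.centralizer_sylow S]
      exact fun a ha b hb => ((hcent hb) a ha).symm
    obtain ⟨a, ha, ha1⟩ := (P.map M.subtype).bot_or_exists_ne_one.resolve_left hYne
    obtain ⟨k, hk⟩ := hYp ⟨a, ha⟩
    have h2 := c.orderOf_two_of_mem S.2 (hle ha) ha1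
    have h3 := orderOf_dvd_of_pow_eq_one (congrArg Subtype.val hk : a ^ c.r ^ k = 1)
    rw [h2] at h3
    exact c.hr2 ((Nat.prime_dvd_prime_iff_eq Nat.prime_two c.hr).1
      (Nat.prime_two.dvd_of_dvd_pow h3)).symm
  · subst h
    obtain ⟨R₀⟩ : Nonempty (Sylow c.r ↥Nm) := inferInstance
    refine ⟨P.map M.subtype, (R₀ : Subgroup ↥Nm).map Nm.subtype, hYne, hYp,
      (map_subtype_le _).trans (map_subtype_le _), (map_subtype_le _).trans hNmY, R₀.2.map _, ?_⟩
    intro R hR hRM
    rw [card_map_of_injective Nm.subtype_injective]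
    obtain ⟨k, hk⟩ := IsPGroup.iff_card.1 hR
    have hd : Nat.card ↥R ∣ Nat.card ↥Nm := by
      rw [hNm]
      refine Nat.Coprime.dvd_of_dvd_mul_right ?_ ((card_dvd_of_le hRM).trans hdvd)
      rw [hk]
      exact (c.hr.coprime_iff_not_dvd.2 (h2S0 c.r c.hr c.hr2)).pow_left _
    rw [hk] at hd ⊢
    exact Nat.le_of_dvd Nat.card_pos (R₀.pow_dvd_card_of_pow_dvd_card hd)

end Cfsg.Agent.H67.TwoR.Ctx
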